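import Cfsg.Agent.Lib.Classical.OrthExtField.Three.Finish

set_option autoImplicit false
set_option linter.unusedSectionVars false

/-!
The normaliser of a self-adjoint extension field of prime degree is maximal in `Ω`, in odd
characteristic and dimension at least four over the extension, or three with odd degree.
-/

namespace CfsgLib.OrthExt

open Matrix Module CfsgLib.Orth

variable {F : Type*} [Field F] [Finite F] {ι : Type} [Fintype ι] [DecidableEq ι]

section semilinear

variable {K : Type*} [Field K] [Algebra F K] [Finite K] [Module K (ι → F)]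
  [IsScalarTower F K (ι → F)] [FiniteDimensional F K]
variable {Q : QuadraticForm F (ι → F)} {t : K →ₗ[F] F}
  {β : (ι → F) →ₗ[K] (ι → F) →ₗ[K] K}

local notation "V" => ι → F

variable (hS : Ext Q t β)
include hS

/-- An element mapping singular lines to lines is semilinear. -/
theorem semilinear (hval : ∀ {x y : V}, β x x = 0 → β y y = 0 → β x y ≠ 0 → ∀ γ : K, γ ≠ 0 →
      ∃ f : F, f ≠ 0 ∧ ∃ v, β x v = 0 ∧ β y v = 0 ∧ β v v = f • γ) {g : Grp Q}
    (hl : ∀ a : V, β a a = 0 → ∀ μ : K, ∃ k : K, ap g (μ • a) = k • ap g a) (k : K) :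
    ∃ k' : K, ∀ x, ap g (k • x) = k' • ap g x := by
  classical
  haveI := hS.finiteK
  choose ν hν using fun (a : {a : V // β a a = 0}) => hl a.1 a.2 k
  have h3 := hS.dim
  have indep : ∀ {x y : V} (hx : β x x = 0) (hy : β y y = 0), β x y ≠ 0 →
      ν ⟨x, hx⟩ = ν ⟨y, hy⟩ := by
    intro x0 y hx0 hy hxy0
    obtain ⟨f', hf', v, hxv0, hyv, hvv0⟩ := hval hx0 hy hxy0 (-(2 * β x0 y))
      (neg_ne_zero.2 (mul_ne_zero hS.twoK hxy0))
    have hfK : algebraMap F K f' ≠ 0 := fun e => hf' ((algebraMap F K).injective (by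
      rw [e, map_zero]))
    obtain ⟨x, hxd⟩ : ∃ x, x = f' • x0 := ⟨_, rfl⟩
    have hx : β x x = 0 := by
      rw [hxd, LinearMap.map_smul_of_tower, LinearMap.map_smul_of_tower, LinearMap.smul_apply, hx0,
        smul_zero, smul_zero]
    have hxy : β x y ≠ 0 := by
      rw [hxd, LinearMap.map_smul_of_tower, LinearMap.smul_apply]
      exact smul_ne_zero hf' hxy0
    have hxv : β x v = 0 := by
      rw [hxd, LinearMap.map_smul_of_tower, LinearMap.smul_apply, hxv0, smul_zero]
    have hvv : β v v = -(2 * β x y) := by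
      rw [hvv0, hxd, LinearMap.map_smul_of_tower, LinearMap.smul_apply, smul_neg, mul_smul_comm]
    have hscale : ν ⟨x, hx⟩ = ν ⟨x0, hx0⟩ := by
      have e := hν ⟨x, hx⟩
      have e0 := hν ⟨x0, hx0⟩
      simp only [hxd, ap_smul, smul_comm k f' x0] at e e0
      rw [smul_comm _ f', e0] at e
      have hne : ap g x0 ≠ 0 := fun h => hxy0 (by
        rw [ap_inj g (h.trans (ap_zero g).symm), map_zero, LinearMap.zero_apply])
      simp only [hxd]
      exact (smul_left_injective K hne (smul_right_injective V hf' e)).symm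
    rw [← hscale]
    have hvx : β v x = 0 := by rw [hS.symm, hxv]
    have hvy : β v y = 0 := by rw [hS.symm, hyv]
    have hz : β (x + y + v) (x + y + v) = 0 := by
      simp only [map_add, LinearMap.add_apply, hx, hy, hxv, hyv, hvx, hvy, hvv, hS.symm y x]
      ring
    have hz' : β (x + y - v) (x + y - v) = 0 := by
      simp only [map_add, map_sub, LinearMap.add_apply, LinearMap.sub_apply, hx, hy, hxv, hyv, hvx,
        hvy, hvv, hS.symm y x]
      ring
    obtain ⟨z, hzd⟩ : ∃ z, z = x + y + v := ⟨_, rfl⟩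
    obtain ⟨z', hzd'⟩ : ∃ z', z' = x + y - v := ⟨_, rfl⟩
    rw [← hzd] at hz
    rw [← hzd'] at hz'
    have hv0 : β v v ≠ 0 := by
      rw [hvv]; exact neg_ne_zero.2 (mul_ne_zero hS.twoK hxy)
    -- independence of the three images
    set f : (K × K × K) →ₗ[F] V :=
      ((LinearMap.toSpanSingleton K V (ap g x)).comp (LinearMap.fst K K (K × K)) +
        (LinearMap.toSpanSingleton K V (ap g y)).comp ((LinearMap.fst K K K).comp (LinearMap.snd K K (K × K))) +
        (LinearMap.toSpanSingleton K V (ap g z)).comp ((LinearMap.snd K K K).comp (LinearMap.snd K K (K × K)))).restrictScalars F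
      with hf
    have hfx : ∀ a b c : K, f (a, b, c) = a • ap g x + b • ap g y + c • ap g z := fun a b c => rfl
    set f0 : (K × K × K) →ₗ[F] V :=
      ((LinearMap.toSpanSingleton K V x).comp (LinearMap.fst K K (K × K)) +
        (LinearMap.toSpanSingleton K V y).comp ((LinearMap.fst K K K).comp (LinearMap.snd K K (K × K))) +
        (LinearMap.toSpanSingleton K V z).comp ((LinearMap.snd K K K).comp (LinearMap.snd K K (K × K)))).restrictScalars F
      with hf0
    have hf0x : ∀ a b c : K, f0 (a, b, c) = a • x + b • y + c • z := fun a b c => rfl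
    have hinj0 : Function.Injective f0 := by
      rw [← LinearMap.ker_eq_bot, LinearMap.ker_eq_bot']
      rintro ⟨a, b, c⟩ h
      rw [hf0x] at h
      have e1 := congrArg (β v) h
      have e2 := congrArg (β x) h
      have e3 := congrArg (β y) h
      simp only [hzd, map_add, map_smul, map_zero, smul_eq_mul, hvx, hvy, hx, hy, hxv, hyv,
        hS.symm y x, mul_zero, zero_add, add_zero] at e1 e2 e3
      have hc : c = 0 := (mul_eq_zero.1 e1).resolve_right hv0
      rw [hc, zero_mul, add_zero] at e2 e3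
      simp [(mul_eq_zero.1 e2).resolve_right hxy, (mul_eq_zero.1 e3).resolve_right hxy, hc]
    have hinj : Function.Injective f := by
      have hle : LinearMap.range (lin g ∘ₗ f0) ≤ LinearMap.range f := by
        rintro _ ⟨⟨a, b, c⟩, rfl⟩
        obtain ⟨a', ha⟩ := hl x hx a
        obtain ⟨b', hb⟩ := hl y hy b
        obtain ⟨c', hc⟩ := hl z hz c
        refine ⟨(a', b', c'), ?_⟩
        rw [hfx, LinearMap.comp_apply, hf0x, lin_apply, ap_add, ap_add, ha, hb, hc]
      have h1 : finrank F (LinearMap.range (lin g ∘ₗ f0)) = finrank F (K × K × K) :=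
        LinearMap.finrank_range_of_inj fun p q e => hinj0 (ap_inj g e)
      have h2 := Submodule.finrank_mono hle
      have h3 := LinearMap.finrank_range_add_finrank_ker f
      rw [← LinearMap.ker_eq_bot, ← Submodule.finrank_eq_zero]
      omega
    have e1 := hν ⟨z, hz⟩
    have e2 := hν ⟨z', hz'⟩
    have ez' : z' = (2 : F) • x + (2 : F) • y - z := by
      rw [hzd, hzd', two_smul, two_smul]; abel
    have h5 : ap g (k • z) + ap g (k • z') = (2 : F) • ap g (k • x) + (2 : F) • ap g (k • y) := by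
      rw [ez', ← ap_smul, ← ap_smul, ← ap_add, ← ap_add, smul_sub, smul_add, smul_comm k (2 : F) x,
        smul_comm k (2 : F) y]
      congr 1
      abel
    have h6 : ap g z' = (2 : F) • ap g x + (2 : F) • ap g y - ap g z := by
      rw [ez', ap_sub, ap_add, ap_smul, ap_smul]
    have e0x := hν ⟨x, hx⟩
    have e0y := hν ⟨y, hy⟩
    simp only at e1 e2 e0x e0y
    rw [e1, e2, e0x, e0y, h6] at h5
    have h7 : f (2 * (ν ⟨z', hz'⟩ - ν ⟨x, hx⟩), 2 * (ν ⟨z', hz'⟩ - ν ⟨y, hy⟩),
        ν ⟨z, hz⟩ - ν ⟨z', hz'⟩) = f 0 := by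
      rw [map_zero, hfx, ← sub_self (ν ⟨z, hz⟩ • ap g z + ν ⟨z', hz'⟩ • ((2 : F) • ap g x + (2 : F) • ap g y - ap g z))]
      nth_rw 2 [h5]
      simp only [two_smul, two_mul]
      module
    have h8 := hinj h7
    simp only [Prod.mk_eq_zero, mul_eq_zero, hS.twoK, false_or, sub_eq_zero] at h8
    exact h8.1.symm.trans h8.2.1
  have hall : ∀ {x y : V} (hx : β x x = 0) (hy : β y y = 0), x ≠ 0 → y ≠ 0 →
      ν ⟨x, hx⟩ = ν ⟨y, hy⟩ := by
    intro x y hx hy hx0 hy0
    by_cases hxy : β x y = 0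
    · obtain ⟨a', ha', haa⟩ := hS.exists_mate hx hx0
      obtain ⟨b', hb', hbb⟩ := hS.exists_mate hy hy0
      by_cases h1 : β y a' = 0
      · by_cases h2 : β x b' = 0
        · have hc : β (a' + b' - β a' b' • x) (a' + b' - β a' b' • x) = 0 := by
            simp only [map_sub, map_add, map_smul, LinearMap.sub_apply, LinearMap.add_apply,
              LinearMap.smul_apply, smul_eq_mul, hx, ha', hb', haa, h2, hS.symm a' x, hS.symm b' x,
              hS.symm b' a']
            ring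
          refine (indep hx hc ?_).trans (indep hy hc ?_).symm
          · rw [map_sub, map_add, map_smul, hx, haa, h2]; simp
          · rw [map_sub, map_add, map_smul, h1, hbb, hS.symm y x, hxy]; simp
        · exact (indep hx hb' h2).trans (indep hy hb' (by rw [hbb]; exact one_ne_zero)).symm
      · exact (indep hx ha' (by rw [haa]; exact one_ne_zero)).trans (indep hy ha' h1).symm
    · exact indep hx hy hxy
  obtain ⟨p, hp0, hpp⟩ : ∃ p : V, p ≠ 0 ∧ β p p = 0 := exists_isotropic β h3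
  refine ⟨ν ⟨p, hpp⟩, ?_⟩
  let S : Submodule F V :=
    { carrier := {x | ap g (k • x) = ν ⟨p, hpp⟩ • ap g x}
      add_mem' := fun {a b} ha hb => by
        show ap g (k • (a + b)) = _
        rw [smul_add, ap_add, ap_add, smul_add, ha, hb]
      zero_mem' := by show ap g (k • 0) = _; simp
      smul_mem' := fun c a ha => by
        show ap g (k • c • a) = _
        rw [smul_comm k c a, ap_smul, ap_smul, ha, smul_comm] }
  have hSs : ∀ a : V, β a a = 0 → a ∈ S := fun a ha => by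
    by_cases ha0 : a = 0
    · rw [ha0]; exact S.zero_mem
    · show ap g (k • a) = _
      rw [hν ⟨a, ha⟩, hall ha hpp ha0 hp0]
  have hsm : ∀ (a : V) (c : K), β a a = 0 → β (c • a) (c • a) = 0 := fun a c ha => by
    rw [map_smul, LinearMap.map_smul₂, ha, smul_zero, smul_zero]
  intro x
  obtain ⟨w, hw, hpw⟩ := hS.exists_mate hpp hp0
  set a := β x w
  set b := β x p
  set v := x - a • p - b • w with hv
  have hwp : β w p = 1 := by rw [hS.symm, hpw]
  have hvp : β v p = 0 := by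
    simp [hv, hpp, hwp, a, b]
  have hvw : β v w = 0 := by
    simp [hv, hw, hpw, a, b]
  have hy : β (w + v - (β v v / 2) • p) (w + v - (β v v / 2) • p) = 0 := by
    simp only [map_add, map_sub, map_smul, LinearMap.add_apply, LinearMap.sub_apply,
      LinearMap.smul_apply, smul_eq_mul, hw, hpp, hpw, hwp, hvp, hvw, hS.symm w v, hS.symm p v]
    have := hS.twoK
    field_simp
    ring
  have e : x = a • p + b • w + ((w + v - (β v v / 2) • p) - w + (β v v / 2) • p) := by
    rw [hv]; abel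
  show x ∈ S
  rw [e]
  exact S.add_mem (S.add_mem (hSs _ (hsm p a hpp)) (hSs _ (hsm w b hw)))
    (S.add_mem (S.sub_mem (hSs _ hy) (hSs w hw)) (hSs _ (hsm p _ hpp)))

/-- Some element of `Ω` moves a singular line. -/
theorem exists_moving (hval : ∀ {x y : V}, β x x = 0 → β y y = 0 → β x y ≠ 0 → ∀ γ : K, γ ≠ 0 →
      ∃ f : F, f ≠ 0 ∧ ∃ v, β x v = 0 ∧ β y v = 0 ∧ β v v = f • γ)
    (hn : 5 ≤ finrank F (ι → F)) :
    ∃ g : Grp Q, g ∈ Cfsg.Omega F ⇑Q ∧ ∃ (a : V) (μ : K), ∀ k : K,
      ap g (μ • a) ≠ k • ap g a := by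
  haveI := hS.finiteK
  obtain ⟨u, hu0, hu⟩ : ∃ u : V, u ≠ 0 ∧ β u u = 0 := exists_isotropic β hS.dim
  obtain ⟨w, hw, huw⟩ := hS.exists_mate hu hu0
  obtain ⟨f', hf', v, huv, hwv, hvv⟩ := hval hu hw (by rw [huw]; exact one_ne_zero) 1 one_ne_zero
  obtain ⟨l, hl, hl0⟩ : ∃ l : K, t l = 0 ∧ l ≠ 0 := by
    have hne : LinearMap.ker t ≠ ⊥ := by
      intro e
      have h1 := LinearMap.finrank_le_finrank_of_injective (LinearMap.ker_eq_bot.1 e)
      rw [Module.finrank_self] at h1
      have := hS.deg.two_le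
      omega
    obtain ⟨l, h1, h3⟩ := Submodule.exists_mem_ne_zero_of_ne_bot hne
    exact ⟨l, h1, h3⟩
  have hB0 : QuadraticMap.polar ⇑Q (l • u) v = 0 := by rw [hS.b_smul, huv, mul_zero, map_zero]
  obtain ⟨g, hg⟩ := exists_siegel hS.nd (hS.sing_smul hu l) hB0
  refine ⟨g, by rw [omega_eq_El hS.nd hn]; exact siegel_mem_El hg, w, ?_⟩
  obtain ⟨μ, hμ⟩ : ∃ μ, t (μ * l) ≠ 0 := by
    by_contra hc
    push Not at hc
    exact hl0 (hS.t_zero hc)
  refine ⟨μ, fun k hk => hμ ?_⟩
  have hgw : ap g w = w := siegel_fix hg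
    (by rw [hS.b_smul', hS.symm, huw, mul_one, hl]) (by rw [← hS.spec, hwv, map_zero])
  rw [hgw, hg.2.2] at hk
  have h := congrArg (β v) hk
  simp only [map_sub, map_add, map_smul, LinearMap.map_smul_of_tower, hS.symm v w, hwv,
    hS.symm v u, huv, hvv, smul_zero, add_zero, zero_add, sub_zero, smul_eq_mul] at h
  rw [hS.b_smul μ w (l • u), map_smul, hS.symm w u, huw, smul_eq_mul, mul_one,
    ← Algebra.algebraMap_eq_smul_one] at h
  simp only [mul_zero, smul_zero, sub_zero, zero_add] at h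
  exact (smul_eq_zero.1 h).resolve_right
    fun e => hf' ((algebraMap F K).injective (by rw [e, map_zero]))

end semilinear

theorem core {K : Type*} [Field K] [Algebra F K] [Finite K] (hrK : (finrank F K).Prime)
    (ρ : K →ₐ[F] Matrix ι ι F) {Q : QuadraticForm F (ι → F)} (hB : Nondeg Q) (h2 : (2 : F) ≠ 0)
    (hsa : Cfsg.Geo.IsSelfAdjointFor (QuadraticMap.polar ⇑Q) ρ.range)
    (hcase : (4 * finrank F K ≤ Fintype.card ι ∧
        (finrank F K = 2 → 5 * finrank F K ≤ Fintype.card ι ∨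
          (4 * finrank F K = Fintype.card ι ∧ ∀ H, ¬ IsHalf Q H))) ∨
      (3 * finrank F K = Fintype.card ι ∧ 3 ≤ finrank F K)) :
    Cfsg.Geo.IsMaximalIn (Cfsg.Geo.omegaGL ⇑Q)
      (Cfsg.Geo.subalgebraNormalizer ρ.range ⊓ Cfsg.Geo.omegaGL ⇑Q) := by
  classical
  letI : Module K (ι → F) := Module.compHom _ ρ.toRingHom
  have hsm : ∀ (k : K) (x : ι → F), k • x = ρ k *ᵥ x := fun k x => rfl
  haveI : IsScalarTower F K (ι → F) := IsScalarTower.of_algebraMap_smul fun c x => by
    rw [hsm, AlgHom.commutes, Algebra.algebraMap_eq_smul_one, smul_mulVec, one_mulVec]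
  haveI : FiniteDimensional F K := Module.Finite.of_finite
  obtain ⟨t, ht⟩ : ∃ t : K →ₗ[F] F, t ≠ 0 := by
    obtain ⟨ℓ, hℓ, -⟩ := Submodule.exists_le_ker_of_notMem
      (show (1 : K) ∉ (⊥ : Submodule F K) by simpa using (one_ne_zero : (1 : K) ≠ 0))
    exact ⟨ℓ, fun e => hℓ (by rw [e]; rfl)⟩
  set e : K →ₗ[F] (K →ₗ[F] F) := (LinearMap.mul F K).compr₂ t with he
  have hinj : Function.Injective e := by
    rw [← LinearMap.ker_eq_bot, LinearMap.ker_eq_bot']
    intro z hz
    by_contra hz0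
    refine ht (LinearMap.ext fun k => ?_)
    have h1 : t (z * (z⁻¹ * k)) = 0 := LinearMap.congr_fun hz (z⁻¹ * k)
    rwa [mul_inv_cancel_left₀ hz0] at h1
  have hfin : finrank F K = finrank F (K →ₗ[F] F) := (Subspace.dual_finrank_eq).symm
  set R := (LinearEquiv.ofInjectiveOfFinrankEq e hinj hfin).symm.toLinearMap with hR
  have hrep : ∀ (ℓ : K →ₗ[F] F) (μ : K), t (μ * R ℓ) = ℓ μ := fun ℓ μ => by
    have h1 : e (R ℓ) = ℓ := (LinearEquiv.ofInjectiveOfFinrankEq e hinj hfin).apply_symm_apply ℓ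
    rw [mul_comm]
    exact LinearMap.congr_fun h1 μ
  have text : ∀ z w : K, (∀ μ, t (μ * z) = t (μ * w)) → z = w := fun z w h => by
    refine hinj (LinearMap.ext fun μ => ?_)
    show t (z * μ) = t (w * μ)
    rw [mul_comm z, mul_comm w, h μ]
  set b : (ι → F) → (ι → F) → K := fun x y =>
    R ((QuadraticMap.polarBilin Q).flip y ∘ₗ (LinearMap.toSpanSingleton K (ι → F) x).restrictScalars F)
    with hb
  have hbs : ∀ (μ : K) x y, t (μ * b x y) = QuadraticMap.polar ⇑Q (μ • x) y := fun μ x y => hrep _ μ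
  have hadj : ∀ (k : K) x y, QuadraticMap.polar ⇑Q (k • x) y = QuadraticMap.polar ⇑Q x (k • y) :=
    fun k x y => hsa (ρ k) ⟨k, rfl⟩ x y
  let β : (ι → F) →ₗ[K] (ι → F) →ₗ[K] K := LinearMap.mk₂ K b
    (fun x x' y => text _ _ fun μ => by rw [mul_add, map_add, hbs, hbs, hbs, smul_add, b_add_left])
    (fun k x y => text _ _ fun μ => by rw [smul_eq_mul, ← mul_assoc, hbs, hbs, smul_smul])
    (fun x y y' => text _ _ fun μ => by rw [mul_add, map_add, hbs, hbs, hbs, b_add_right])
    (fun k x y => text _ _ fun μ => by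
      rw [smul_eq_mul, ← mul_assoc, hbs, hbs, mul_comm μ k, ← smul_smul, hadj k])
  have hS : Ext Q t β := by
    refine ⟨hB, h2, fun x y => text _ _ fun μ => ?_, fun x y => ?_, ht, hrK, ?_⟩
    · show t (μ * b x y) = t (μ * b y x)
      rw [hbs, hbs, hadj, b_comm]
    · show t (b x y) = _
      rw [← one_mul (b x y), hbs, one_smul]
    · haveI : FiniteDimensional K (ι → F) := Module.Finite.right F K (ι → F)
      have h := Module.finrank_mul_finrank F K (ι → F)
      rw [Module.finrank_fintype_fun_eq_card] at h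
      refine Nat.le_of_mul_le_mul_left ?_ hrK.pos
      rw [h, mul_comm]
      rcases hcase with ⟨h4, -⟩ | ⟨h3, -⟩ <;> omega
  haveI := hS.finiteK
  have hdim := Module.finrank_mul_finrank F K (ι → F)
  rw [Module.finrank_fintype_fun_eq_card] at hdim
  have hn : 5 ≤ finrank F (ι → F) := by
    rw [Module.finrank_fintype_fun_eq_card]
    have := hrK.two_le
    rcases hcase with ⟨h, -⟩ | ⟨h, -⟩ <;> omega
  have hfine : (∀ {x y : ι → F}, β x x = 0 → β y y = 0 → β x y ≠ 0 → ∀ γ : K, γ ≠ 0 →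
      ∃ f : F, f ≠ 0 ∧ ∃ v, β x v = 0 ∧ β y v = 0 ∧ β v v = f • γ) ∧
      ∀ M : Subgroup (Grp Q), M ≤ Cfsg.Omega F ⇑Q →
        (∀ g, g ∈ Cfsg.Omega F ⇑Q → (∀ (k : K) x, ap g (k • x) = k • ap g x) → g ∈ M) →
        ∀ g ∈ M, ∀ a : ι → F, β a a = 0 → (∃ μ : K, ∀ k : K, ap g (μ • a) ≠ k • ap g a) →
        El Q ≤ M := by
    rcases hcase with ⟨hd4, hd7⟩ | ⟨hd3, h5⟩
    · have h4 : 4 ≤ finrank K (ι → F) :=
        Nat.le_of_mul_le_mul_left (by rw [hdim, mul_comm _ 4]; exact hd4) hrK.pos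
      have h6 : finrank F K = 2 → 5 ≤ finrank K (ι → F) ∨ Thin β := fun h => by
        rcases hd7 h with h5 | ⟨h5, hno⟩
        · exact Or.inl (Nat.le_of_mul_le_mul_left (by rw [hdim, mul_comm _ 5]; exact h5) hrK.pos)
        refine Or.inr fun p y hp hy hpy hp0 => ?_
        by_contra hc
        push Not at hc
        have hli : LinearIndependent K ![p, y] :=
          (LinearIndependent.pair_iff' hp0).2 fun k e => hc k e.symm
        have hfr : finrank K (Submodule.span K (Set.range ![p, y])) = 2 := by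
          rw [finrank_span_eq_card hli, Fintype.card_fin]
        refine hno ((Submodule.span K (Set.range ![p, y])).restrictScalars F) ⟨fun x hx => ?_, ?_⟩
        · obtain ⟨c, hcx⟩ := (Submodule.mem_span_range_iff_exists_fun K).1 hx
          refine hS.sing ?_
          rw [← hcx, Fin.sum_univ_two]
          simp [hp, hy, hpy, hS.symm y p]
        · have e := Module.finrank_mul_finrank F K (Submodule.span K (Set.range ![p, y]))
          rw [hfr] at e
          rw [show finrank F ((Submodule.span K (Set.range ![p, y])).restrictScalars F) =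
              finrank F (Submodule.span K (Set.range ![p, y])) from rfl, ← e,
            Module.finrank_fintype_fun_eq_card, h]
          omega
      refine ⟨fun hx hy hxy γ _ => ?_, fun M _ hMin g hg a ha hmove =>
        El_le_of_moved hS ⟨fun hk => hS.isK_mem hMin hn hk⟩ h4 h6 hn hMin hg ha hmove⟩
      obtain ⟨v, hv⟩ := hS.exists_value h4 hx hy hxy γ
      exact ⟨1, one_ne_zero, v, hv.1, hv.2.1, by rw [one_smul]; exact hv.2.2⟩
    · have hD : Dim3 Q t β :=
        ⟨hS, Nat.eq_of_mul_eq_mul_left hrK.pos (by rw [hdim, mul_comm]; exact hd3.symm),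
          hrK.odd_of_ne_two (by omega), h5⟩
      refine ⟨fun {x y} hx hy hxy γ hγ => ?_, fun M hΩ hMin g hg a ha hmove =>
        El_le_three hD ⟨hMin⟩ hΩ hg ha hmove⟩
      obtain ⟨z, hz⟩ := hD.exists_third (a := x + y) (b := x - y)
        (by simp [hx, hy, hS.symm y x])
        (by simp [hx, hy, hS.symm y x, ← two_mul, hS.twoK, hxy])
        (by simp [hx, hy, hS.symm y x, ← two_mul, hS.twoK, hxy, sub_eq_add_neg])
      have e1 := hz.ac
      have e2 := hz.bc
      rw [map_add, LinearMap.add_apply] at e1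
      rw [map_sub, LinearMap.sub_apply] at e2
      have e3 : (2 : K) * β x z = 0 := by linear_combination e1 + e2
      have e4 := (mul_eq_zero.1 e3).resolve_left hS.twoK
      obtain ⟨f, k, hf, hk, e⟩ := hD.exists_class (div_ne_zero hz.qc hγ)
      refine ⟨f, hf, k⁻¹ • z, by rw [map_smul, e4, smul_zero],
        by rw [map_smul, show β y z = 0 by linear_combination e1 - e4, smul_zero], ?_⟩
      rw [Algebra.smul_def] at e ⊢
      rw [map_smul, LinearMap.map_smul₂, smul_eq_mul, smul_eq_mul]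
      field_simp at e ⊢
      linear_combination e
  have hnorm : ∀ g : Grp Q, (∀ k : K, ∃ k' : K, ∀ x, ap g (k • x) = k' • ap g x) →
      ∀ k ∈ ρ.range, ((g : GL ι F) : Matrix ι ι F) * k * (((g : GL ι F)⁻¹ : GL ι F) : Matrix ι ι F) ∈ ρ.range := by
    intro g hg k hk
    obtain ⟨k, rfl⟩ := hk
    obtain ⟨k', hk'⟩ := hg k
    have e1 : ((g : GL ι F) : Matrix ι ι F) * ρ k = ρ k' * ((g : GL ι F) : Matrix ι ι F) := by
      refine Matrix.ext_iff_mulVec.2 fun x => ?_
      rw [← mulVec_mulVec, ← mulVec_mulVec]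
      exact hk' x
    rw [show ρ.toRingHom k = ρ k from rfl, e1, mul_assoc, Units.mul_inv, mul_one]
    exact ⟨k', rfl⟩
  refine isMaximalIn_omegaGL
    (H := (Cfsg.Geo.subalgebraNormalizer ρ.range).comap (Cfsg.isometryGroup F ⇑Q).subtype)
    (fun _ => Iff.rfl) ⟨lt_of_le_not_ge inf_le_right fun hge => ?_, fun M h1 h2 => ?_⟩
  · obtain ⟨g, hg, a, μ, hmove⟩ := exists_moving hS hfine.1 hn
    obtain ⟨k', hk'⟩ := ((hge hg).1 (ρ μ)).1 ⟨μ, rfl⟩
    refine hmove k' ?_
    rw [hsm k', show ρ k' = _ from hk']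
    show _ = (((g : GL ι F) : Matrix ι ι F) * ρ μ * _) *ᵥ (((g : GL ι F) : Matrix ι ι F) *ᵥ a)
    rw [mulVec_mulVec, Subgroup.coe_subtype, mul_assoc, mul_assoc, Units.inv_mul, mul_one]
    exact mulVec_mulVec a _ _
  have hMin : ∀ g, g ∈ Cfsg.Omega F ⇑Q → (∀ (k : K) x, ap g (k • x) = k • ap g x) → g ∈ M := by
    intro g hg hc
    refine h1 ⟨fun k => ⟨hnorm g (fun k => ⟨k, hc k⟩) k, fun h => ?_⟩, hg⟩
    have h3 := hnorm g⁻¹ (fun k => ⟨k, fun x => ap_inj g (by rw [hc, ap_ap_inv, ap_ap_inv])⟩) _ h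
    simp only [Subgroup.coe_inv, inv_inv, Subgroup.coe_subtype] at h3
    simpa [mul_assoc, ← mul_assoc (((g : GL ι F))⁻¹ : GL ι F).1] using h3
  by_cases hbad : ∃ g ∈ M, ∃ a : ι → F, β a a = 0 ∧ ∃ μ : K, ∀ k : K,
      ap g (μ • a) ≠ k • ap g a
  · obtain ⟨g, hg, a, ha, hmove⟩ := hbad
    exact Or.inr (le_antisymm h2 (by
      rw [omega_eq_El hB hn]; exact hfine.2 M h2 hMin g hg a ha hmove))
  push Not at hbad
  refine Or.inl (le_antisymm (fun g hg => ⟨fun k => ?_, h2 hg⟩) h1)
  have key : ∀ g ∈ M, ∀ k ∈ ρ.range, ((g : GL ι F) : Matrix ι ι F) * k *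
      (((g : GL ι F)⁻¹ : GL ι F) : Matrix ι ι F) ∈ ρ.range := fun g hg =>
    hnorm g (semilinear hS hfine.1 fun a ha μ => hbad g hg a ha μ)
  refine ⟨key g hg k, fun h => ?_⟩
  have h3 := key g⁻¹ (M.inv_mem hg) _ h
  simp only [Subgroup.coe_inv, inv_inv, Subgroup.coe_subtype] at h3
  simpa [mul_assoc, ← mul_assoc (((g : GL ι F))⁻¹ : GL ι F).1] using h3

theorem isMaximalIn' {r : ℕ} (hr : r.Prime) {Q : QuadraticForm F (ι → F)} (hB : Nondeg Q)
    (h2 : (2 : F) ≠ 0) (K : Subalgebra F (Matrix ι ι F)) (hK : Cfsg.Geo.IsFieldSubalgebra r K)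
    (hsa : Cfsg.Geo.IsSelfAdjointFor (QuadraticMap.polar ⇑Q) K)
    (hcase : (4 * r ≤ Fintype.card ι ∧ (r = 2 → 5 * r ≤ Fintype.card ι ∨
        (4 * r = Fintype.card ι ∧ ∀ H, ¬ IsHalf Q H))) ∨
      (3 * r = Fintype.card ι ∧ 3 ≤ r)) :
    Cfsg.Geo.IsMaximalIn (Cfsg.Geo.omegaGL ⇑Q)
      (Cfsg.Geo.subalgebraNormalizer K ⊓ Cfsg.Geo.omegaGL ⇑Q) := by
  haveI : Nonempty ι := Fintype.card_pos_iff.1 (by
    have := hr.two_le
    rcases hcase with ⟨h, -⟩ | ⟨h, -⟩ <;> omega)
  have hfield : IsField K :=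
    ⟨⟨0, 1, fun e => zero_ne_one (congrArg Subtype.val e)⟩,
      fun a b => Subtype.ext (hK.comm a a.2 b b.2),
      fun {a} ha => by
        obtain ⟨y, hy, e⟩ := hK.inv a a.2 fun e => ha (Subtype.ext e)
        exact ⟨⟨y, hy⟩, Subtype.ext e⟩⟩
  letI : Field K := hfield.toField
  haveI : Finite K := Finite.of_injective _ Subtype.val_injective
  have h := core (K := K) (by rw [hK.finrank_eq]; exact hr) K.val hB h2
    (by rw [Subalgebra.range_val]; exact hsa) (by rw [hK.finrank_eq]; exact hcase)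
  rwa [Subalgebra.range_val] at h

theorem isMaximalIn {r : ℕ} (hr : r.Prime) {Q : QuadraticForm F (ι → F)} (hB : Nondeg Q)
    (h2 : (2 : F) ≠ 0) (K : Subalgebra F (Matrix ι ι F)) (hK : Cfsg.Geo.IsFieldSubalgebra r K)
    (hsa : Cfsg.Geo.IsSelfAdjointFor (QuadraticMap.polar ⇑Q) K)
    (hcase : (4 * r ≤ Fintype.card ι ∧ (r = 2 → 5 * r ≤ Fintype.card ι)) ∨
      (3 * r = Fintype.card ι ∧ 3 ≤ r)) :
    Cfsg.Geo.IsMaximalIn (Cfsg.Geo.omegaGL ⇑Q)
      (Cfsg.Geo.subalgebraNormalizer K ⊓ Cfsg.Geo.omegaGL ⇑Q) :=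
  isMaximalIn' hr hB h2 K hK hsa (hcase.imp (fun h => ⟨h.1, fun e => Or.inl (h.2 e)⟩) id)

theorem degree_dvd_aux {K : Type*} [Field K] [Algebra F K] (ρ : K →ₐ[F] Matrix ι ι F) :
    finrank F K ∣ Fintype.card ι := by
  letI : Module K (ι → F) := Module.compHom _ ρ.toRingHom
  haveI : IsScalarTower F K (ι → F) := IsScalarTower.of_algebraMap_smul fun c x => by
    show ρ (algebraMap F K c) *ᵥ x = c • x
    rw [AlgHom.commutes, Algebra.algebraMap_eq_smul_one, smul_mulVec, one_mulVec]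
  exact ⟨finrank K (ι → F), by rw [Module.finrank_mul_finrank, Module.finrank_fintype_fun_eq_card]⟩

/-- The degree divides the dimension. -/
theorem degree_dvd {r : ℕ} [Nonempty ι] (K : Subalgebra F (Matrix ι ι F))
    (hK : Cfsg.Geo.IsFieldSubalgebra r K) : r ∣ Fintype.card ι := by
  have hfield : IsField K :=
    ⟨⟨0, 1, fun e => zero_ne_one (congrArg Subtype.val e)⟩,
      fun a b => Subtype.ext (hK.comm a a.2 b b.2),
      fun {a} ha => by
        obtain ⟨y, hy, e⟩ := hK.inv a a.2 fun e => ha (Subtype.ext e)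
        exact ⟨⟨y, hy⟩, Subtype.ext e⟩⟩
  letI : Field K := hfield.toField
  have h := degree_dvd_aux (K := K) K.val
  rwa [hK.finrank_eq] at h

end CfsgLib.OrthExt
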