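import Cfsg.Agent.Lib.Classical.OrthExtField.Setup

set_option autoImplicit false
set_option linter.unusedSectionVars false

/-!
Raising the intersection of two images of singular lines over `K` to a hyperplane of each.
-/

namespace CfsgLib.OrthExt

open Module CfsgLib.Orth

variable {F : Type*} [Field F] [Finite F] {ι : Type} [Fintype ι] [DecidableEq ι]
variable {K : Type*} [Field K] [Algebra F K] [Finite K] [Module K (ι → F)]
  [IsScalarTower F K (ι → F)]
variable {Q : QuadraticForm F (ι → F)} {t : K →ₗ[F] F}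
  {β : (ι → F) →ₗ[K] (ι → F) →ₗ[K] K}

local notation "V" => ι → F
local notation "B" => QuadraticMap.polar (DFunLike.coe Q)

/-- The parametrised image of a line. -/
def psi (u : ι → F) (g : Grp Q) : K →ₗ[F] (ι → F) :=
  lin g ∘ₗ (LinearMap.toSpanSingleton K (ι → F) u).restrictScalars F

theorem psi_apply (u : ι → F) (g : Grp Q) (μ : K) : psi u g μ = ap g (μ • u) := rfl

theorem psi_one (u : ι → F) (μ : K) : psi u (1 : Grp Q) μ = μ • u := by rw [psi_apply, ap_one]

/-- The parameters sent into the line of `u`. -/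
def Lsp (u u' : ι → F) (g : Grp Q) : Submodule F K :=
  (LinearMap.range (psi (K := K) u (1 : Grp Q))).comap (psi u' g)

theorem mem_lsp {u u' : ι → F} {g : Grp Q} {μ : K} :
    μ ∈ Lsp u u' g ↔ ∃ k : K, k • u = ap g (μ • u') := by
  simp only [Lsp, Submodule.mem_comap, LinearMap.mem_range, psi_apply, ap_one]

/-- Two distinct images of singular lines. -/
structure Pair (β : (ι → F) →ₗ[K] (ι → F) →ₗ[K] K) (M : Subgroup (Grp Q)) (u u' : ι → F)
    (g : Grp Q) : Prop where
  mem : g ∈ M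
  sing : β u u = 0
  ne : u ≠ 0
  sing' : β u' u' = 0
  ne' : u' ≠ 0
  moved : ∃ μ : K, μ ∉ Lsp u u' g

/-- The pairing of the image with the line of `u`. -/
def Pairing (β : (ι → F) →ₗ[K] (ι → F) →ₗ[K] K) (u u' : ι → F) (g : Grp Q) : K →ₗ[F] K :=
  (β.flip u).restrictScalars F ∘ₗ psi u' g

theorem pairing_apply (u u' : ι → F) (g : Grp Q) (μ : K) :
    Pairing β u u' g μ = β (ap g (μ • u')) u := rfl

variable (hS : Ext Q t β) {M : Subgroup (Grp Q)} (hM : Over β M)
include hS

theorem Pair.finrank_lt [FiniteDimensional F K] {u u' : V} {g : Grp Q} (hp : Pair β M u u' g) :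
    finrank F (Lsp (K := K) u u' g) < finrank F K := by
  refine Submodule.finrank_lt fun e => ?_
  obtain ⟨μ, hμ⟩ := hp.moved
  exact hμ (e ▸ Submodule.mem_top)

theorem image_iso {u' : V} (hu' : β u' u' = 0) (g : Grp Q) (μ ν : K) :
    B (ap g (μ • u')) (ap g (ν • u')) = 0 := by
  rw [ap_b, hS.b_smul, map_smul, hu', smul_zero, mul_zero, map_zero]

theorem pairing_of_mem {u u' : V} {g : Grp Q} (hp : Pair β M u u' g) {μ : K}
    (h : μ ∈ Lsp u u' g) : Pairing β u u' g μ = 0 := by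
  obtain ⟨k, hk⟩ := mem_lsp.1 h
  rw [pairing_apply, ← hk, LinearMap.map_smul₂, hp.sing, smul_zero]

omit hS in
theorem transport_mem {u' : V} {g s : Grp Q} {μ : K} :
    μ ∈ Lsp u' u' (g⁻¹ * s * g) ↔ ∃ k : K, ap g (k • u') = ap s (ap g (μ • u')) := by
  rw [mem_lsp]
  refine exists_congr fun k => ?_
  rw [ap_mul, ap_mul]
  exact ⟨fun e => by rw [e, ap_ap_inv], fun e => by rw [← e, ap_inv_ap]⟩

theorem siegel_fix_line {u v : V} {s : Grp Q} (hs : IsK β u v s) (k : K) :
    ap s (k • u) = k • u := by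
  rw [hS.isK_lin hs, hs.2.2, hs.1, hs.2.1]
  simp

theorem le_transport {u u' v : V} {g s : Grp Q} (hs : IsK β u v s) :
    Lsp (K := K) u u' g ≤ Lsp u' u' (g⁻¹ * s * g) := by
  intro μ hμ
  obtain ⟨k, hk⟩ := mem_lsp.1 hμ
  rw [transport_mem]
  exact ⟨μ, by rw [← hk, siegel_fix_line hS hs, hk]⟩

variable [FiniteDimensional F K]

theorem lbar_lt {u u' : V} {g : Grp Q} (hp : Pair β M u u' g) :
    ∃ ζ : K, ∀ μ : K, ζ • u ≠ ap g (μ • u') := by
  by_contra hc
  push Not at hc
  choose m hm using hc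
  obtain ⟨μ, hμ⟩ := hp.moved
  have hinj : Function.Injective m := fun a b e => by
    have h1 := (hm a).trans ((congrArg (fun x => ap g (x • u')) e).trans (hm b).symm)
    exact smul_left_injective K hp.ne h1
  obtain ⟨k, hk⟩ := (Finite.injective_iff_surjective.1 hinj) μ
  exact hμ (mem_lsp.2 ⟨k, by rw [hm, hk]⟩)

include hM

/-- A vector of the image orthogonal to the line: the intersection grows, or the image lies in a
singular plane. -/
theorem grow_of_perp (h4 : 4 ≤ finrank K (ι → F)) {u u' : V} {g : Grp Q} (hp : Pair β M u u' g)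
    {μ0 : K} (hμ0 : μ0 ∉ Lsp u u' g) (hA : Pairing β u u' g μ0 = 0) :
    (∃ h, Pair β M u' u' h ∧
      finrank F (Lsp (K := K) u u' g) < finrank F (Lsp (K := K) u' u' h)) ∨
    ((∀ μ, Pairing β u u' g μ = 0) ∧
      ∀ μ : K, ∃ a b : K, ap g (μ • u') = a • u + b • ap g (μ0 • u')) := by
  classical
  haveI := hS.finiteK
  rw [pairing_apply] at hA
  set x0 := ap g (μ0 • u') with hx0
  set A0 : Submodule K V := LinearMap.ker (β u) ⊓ LinearMap.ker (β x0) with hA0
  by_cases hmv : ∃ v ∈ A0, ∃ s, IsK β u v s ∧ ∃ μ : K, μ ∉ Lsp u' u' (g⁻¹ * s * g)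
  · left
    obtain ⟨v, hv, s, hs, hmoved⟩ := hmv
    refine ⟨g⁻¹ * s * g, ⟨M.mul_mem (M.mul_mem (M.inv_mem hp.mem) (hM.mem hs)) hp.mem, hp.sing',
      hp.ne', hp.sing', hp.ne', hmoved⟩, Submodule.finrank_lt_finrank_of_lt ?_⟩
    refine lt_of_le_of_ne (le_transport hS hs) fun e => hμ0 ?_
    rw [e, transport_mem]
    refine ⟨μ0, ?_⟩
    rw [← hx0, hs.2.2, hA, show β x0 v = 0 from hv.2, zero_smul, mul_zero, add_zero, add_zero,
      zero_smul, sub_zero]
  push Not at hmv
  right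
  have key : ∀ v ∈ A0, ∀ μ : K, ∃ k : K, ap g (k • u') = ap g (μ • u') + β (ap g (μ • u')) u • v
      - (β (ap g (μ • u')) v + β v v / 2 * β (ap g (μ • u')) u) • u := by
    intro v hv μ
    obtain ⟨s, hs⟩ := hS.exists_isK hp.sing (v := v) hv.1
    obtain ⟨k, hk⟩ := transport_mem.1 (hmv v hv s hs μ)
    exact ⟨k, by rw [hk, hs.2.2]⟩
  have hA' : ∀ μ, Pairing β u u' g μ = 0 := by
    by_contra hc
    push Not at hc
    obtain ⟨μ1, hμ1⟩ := hc
    rw [pairing_apply] at hμ1
    set x1 := ap g (μ1 • u') with hx1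
    set S := LinearMap.range (psi (K := K) u (1 : Grp Q)) ⊔ LinearMap.range (psi (K := K) u' g)
    have hle : A0.restrictScalars F ≤ S := by
      intro v hv
      obtain ⟨k, hk⟩ := key ((β x1 u)⁻¹ • v) (A0.smul_mem _ hv) μ1
      rw [← hx1, smul_smul, mul_inv_cancel₀ hμ1, one_smul] at hk
      set c := β x1 ((β x1 u)⁻¹ • v) +
        β ((β x1 u)⁻¹ • v) ((β x1 u)⁻¹ • v) / 2 * β x1 u
      refine Submodule.mem_sup.2 ⟨c • u, ⟨c, psi_one u c⟩, ap g ((k - μ1) • u'), ⟨_, rfl⟩, ?_⟩
      rw [sub_smul, ap_sub, ← hx1, hk]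
      abel
    have h1 : finrank F S ≤ 2 * finrank F K := by
      refine (Submodule.finrank_add_le_finrank_add_finrank _ _).trans ?_
      have a := LinearMap.finrank_range_le (psi (K := K) u (1 : Grp Q))
      have b := LinearMap.finrank_range_le (psi (K := K) u' g)
      omega
    have h2 : 2 * finrank F K ≤ finrank F (A0.restrictScalars F) := by
      have e : finrank F (A0.restrictScalars F) = finrank F K * finrank K A0 := by
        rw [Module.finrank_mul_finrank F K A0]
        rfl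
      have h3 : finrank K (ι → F) ≤ finrank K A0 + 2 := hS.finrank_perp_pair u x0
      rw [e, mul_comm 2]
      exact Nat.mul_le_mul_left _ (by omega)
    have he := Submodule.eq_of_le_of_finrank_le hle (h1.trans h2)
    have hmem : x1 ∈ A0.restrictScalars F := by
      rw [he]; exact Submodule.mem_sup_right ⟨μ1, rfl⟩
    exact hμ1 (by rw [hS.symm]; exact hmem.1)
  refine ⟨hA', fun μ => hS.mem_pair fun y hy1 hy2 => ?_⟩
  obtain ⟨ζ, hζ⟩ := lbar_lt hS hp
  by_contra hne
  obtain ⟨k, hk⟩ := key ((-ζ / β (ap g (μ • u')) y) • y) (A0.smul_mem _ ⟨hy1, hy2⟩) μ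
  rw [show β (ap g (μ • u')) u = 0 from hA' μ, zero_smul, add_zero, mul_zero, add_zero, map_smul,
    smul_eq_mul, div_mul_cancel₀ _ hne, neg_smul, sub_neg_eq_add] at hk
  exact hζ (k - μ) (by rw [sub_smul, ap_sub, hk, add_sub_cancel_left])

/-- The intersection grows when the pairing is degenerate. -/
theorem grow_degenerate (h4 : 4 ≤ finrank K (ι → F)) {u u' : V} {g : Grp Q}
    (hp : Pair β M u u' g) (hk1 : 1 ≤ finrank F (Lsp (K := K) u u' g))
    (hk2 : finrank F (Lsp (K := K) u u' g) + 2 ≤ finrank F K)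
    {μ0 : K} (hμ0 : μ0 ∉ Lsp u u' g) (hA : Pairing β u u' g μ0 = 0) :
    ∃ h, Pair β M u' u' h ∧
      finrank F (Lsp (K := K) u u' g) < finrank F (Lsp (K := K) u' u' h) := by
  classical
  rcases grow_of_perp hS hM h4 hp hμ0 hA with h | ⟨hA', hspan⟩
  · exact h
  set x0 := ap g (μ0 • u') with hx0
  have hux0 : β u x0 = 0 := by rw [hS.symm]; exact hA
  obtain ⟨y, hy1, hy2⟩ : ∃ y, β u y = 0 ∧ β x0 y ≠ 0 := by
    by_contra hc
    push Not at hc
    obtain ⟨a, ha⟩ := hS.mem_line hc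
    exact hμ0 (mem_lsp.2 ⟨a, ha.symm⟩)
  set v := (β x0 y)⁻¹ • y with hv
  have hv1 : β u v = 0 := by rw [hv, map_smul, hy1, smul_zero]
  have hv2 : β x0 v = 1 := by rw [hv, map_smul, smul_eq_mul, inv_mul_cancel₀ hy2]
  set b : K →ₗ[F] K := (β.flip v).restrictScalars F ∘ₗ psi u' g with hb
  have hbx : ∀ μ, b μ = β (ap g (μ • u')) v := fun μ => rfl
  have hb0 : ∀ μ, b μ = 0 → μ ∈ Lsp u u' g := by
    intro μ h
    obtain ⟨a, b', e⟩ := hspan μ
    rw [hbx, e, map_add, LinearMap.add_apply, LinearMap.map_smul₂, LinearMap.map_smul₂, hv1, hv2,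
      smul_zero, zero_add, smul_eq_mul, mul_one] at h
    exact mem_lsp.2 ⟨a, by rw [e, h, zero_smul, add_zero]⟩
  set Lb : Submodule F K := (LinearMap.range (psi (K := K) u' g)).comap (psi u (1 : Grp Q))
  have hLb : ∀ ζ : K, ζ ∈ Lb ↔ ∃ μ : K, ap g (μ • u') = ζ • u := fun ζ => by
    simp only [Lb, Submodule.mem_comap, LinearMap.mem_range, psi_one]
    rfl
  have hLb0 : Lb ≠ ⊥ := by
    obtain ⟨μ, hμ, hμ0'⟩ := Submodule.exists_mem_ne_zero_of_ne_bot
      (Submodule.one_le_finrank_iff.1 hk1)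
    obtain ⟨k, hk⟩ := mem_lsp.1 hμ
    refine (Submodule.ne_bot_iff _).2 ⟨k, (hLb k).2 ⟨μ, hk.symm⟩, fun e => ?_⟩
    rw [e, zero_smul] at hk
    have h0 : μ • u' = 0 := ap_inj g (hk.symm.trans (ap_zero g).symm)
    exact hμ0' ((smul_eq_zero.1 h0).resolve_right hp.ne')
  -- a scalar moving some of the image into the intersection, but not all
  obtain ⟨lam, μ1, hμ1, hin, μ2, hout⟩ :
      ∃ lam μ1, μ1 ∉ Lsp u u' g ∧ lam * b μ1 ∈ Lb ∧ ∃ μ2, lam * b μ2 ∉ Lb := by
    have hb00 : b μ0 ≠ 0 := by rw [hbx, ← hx0, hv2]; exact one_ne_zero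
    by_contra hc
    push Not at hc
    set S : Submodule F K :=
      { carrier := {x | ∀ z ∈ Lb, x * z ∈ Lb}
        add_mem' := fun {x y} hx hy z hz => by rw [add_mul]; exact Lb.add_mem (hx z hz) (hy z hz)
        zero_mem' := fun z _ => by rw [zero_mul]; exact Lb.zero_mem
        smul_mem' := fun c x hx z hz => by rw [smul_mul_assoc]; exact Lb.smul_mem c (hx z hz) }
    have h1 : (1 : K) ∈ S := fun z hz => by rwa [one_mul]
    have hmul : ∀ x y, x ∈ S → y ∈ S → x * y ∈ S := fun x y hx hy z hz => by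
      rw [mul_assoc]; exact hx _ (hy z hz)
    have hmem : ∀ μ, b μ / b μ0 ∈ S := fun μ z hz => by
      have h := hc (z / b μ0) μ0 hμ0 (by rwa [div_mul_cancel₀ _ hb00]) μ
      rwa [div_mul_eq_mul_div, mul_comm, ← div_mul_eq_mul_div]
    haveI := Subalgebra.isSimpleOrder_of_finrank_prime F K hS.deg
    rcases eq_bot_or_eq_top (S.toSubalgebra h1 hmul) with h | h
    · have hle : LinearMap.range b ≤ Submodule.span F {b μ0} := by
        rintro _ ⟨μ, rfl⟩
        have hz : b μ / b μ0 ∈ S.toSubalgebra h1 hmul := hmem μ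
        rw [h, Algebra.mem_bot] at hz
        obtain ⟨c, hc'⟩ := hz
        exact Submodule.mem_span_singleton.2
          ⟨c, by rw [Algebra.smul_def, hc', div_mul_cancel₀ _ hb00]⟩
      have hker : LinearMap.ker b ≤ Lsp u u' g := fun μ hμ => hb0 μ hμ
      have a1 := (Submodule.finrank_mono hle).trans (finrank_span_singleton hb00).le
      have a2 := Submodule.finrank_mono hker
      have a3 := LinearMap.finrank_range_add_finrank_ker b
      omega
    · obtain ⟨z, hz, hz0⟩ := Submodule.exists_mem_ne_zero_of_ne_bot hLb0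
      obtain ⟨ζ, hζ⟩ := lbar_lt hS hp
      have hall : ∀ x : K, x * z ∈ Lb := fun x =>
        (h ▸ Algebra.mem_top : x ∈ S.toSubalgebra h1 hmul) z hz
      obtain ⟨μ, hμ⟩ := (hLb ζ).1 (by simpa [div_mul_cancel₀ _ hz0] using hall (ζ / z))
      exact hζ μ hμ.symm
  obtain ⟨s, hs⟩ := hS.exists_isK hp.sing (v := lam • v) (by rw [map_smul, hv1, smul_zero])
  have hsx : ∀ μ, ap s (ap g (μ • u')) = ap g (μ • u') - (lam * b μ) • u := fun μ => by
    rw [hs.2.2, show β (ap g (μ • u')) u = 0 from hA' μ, zero_smul, add_zero, mul_zero, add_zero,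
      map_smul, hbx, smul_eq_mul]
  refine ⟨g⁻¹ * s * g, ⟨M.mul_mem (M.mul_mem (M.inv_mem hp.mem) (hM.mem hs)) hp.mem, hp.sing',
      hp.ne', hp.sing', hp.ne', μ2, fun h => hout ?_⟩, Submodule.finrank_lt_finrank_of_lt ?_⟩
  · obtain ⟨k, hk⟩ := transport_mem.1 h
    refine (hLb _).2 ⟨μ2 - k, ?_⟩
    rw [sub_smul, ap_sub, hk, hsx, sub_sub_cancel]
  · refine lt_of_le_of_ne (le_transport hS hs) fun e => hμ1 ?_
    rw [e, transport_mem]
    obtain ⟨m, hm⟩ := (hLb _).1 hin
    exact ⟨μ1 - m, by rw [hsx, sub_smul, ap_sub, hm]⟩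

/-- A non-degenerate pairing can be made degenerate keeping the intersection. -/
theorem degenerate (h4 : 4 ≤ finrank K (ι → F)) {u u' : V} {g : Grp Q}
    (hp : Pair β M u u' g) (hk1 : 1 ≤ finrank F (Lsp (K := K) u u' g))
    (hinj : ∀ μ, μ ∉ Lsp u u' g → Pairing β u u' g μ ≠ 0) :
    ∃ h, Pair β M u' u' h ∧ Lsp (K := K) u u' g ≤ Lsp u' u' h ∧
      ∃ μ, μ ∉ Lsp u u' g ∧ Pairing β u' u' h μ = 0 := by
  classical
  haveI := hS.finiteK
  obtain ⟨μ0, hμ0⟩ := hp.moved
  have hA0 := hinj μ0 hμ0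
  rw [pairing_apply] at hA0
  set x0 := ap g (μ0 • u') with hx0
  obtain ⟨w, hw, huw⟩ := hS.exists_mate hp.sing hp.ne
  set E : Submodule K V := LinearMap.ker (β u) ⊓ LinearMap.ker (β w) with hE
  obtain ⟨C, hC⟩ := Submodule.exists_isCompl (Lsp (K := K) u u' g)
  have hdC := Submodule.finrank_add_eq_of_isCompl hC
  set c := Module.finBasis F C
  set y : Fin (finrank F C) → V := fun i => ap g ((c i : K) • u') with hy
  let ι0 : (E.restrictScalars F) →ₗ[F] V := (E.restrictScalars F).subtype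
  set L : Fin (finrank F C) → (E.restrictScalars F) →ₗ[F] F := fun i =>
    t ∘ₗ ((β x0 u • β.flip (y i)) - β (y i) u • β x0).restrictScalars F ∘ₗ ι0 with hL
  set q : Fin (finrank F C) → (E.restrictScalars F) →ₗ[F] (E.restrictScalars F) →ₗ[F] F := fun i =>
    LinearMap.mk₂ F (fun v v' => -t ((β x0 u * β (y i) u / 2) * β (v : V) (v' : V)))
      (fun a b d => by
        simp only [Submodule.coe_add, map_add, LinearMap.add_apply, mul_add, neg_add])
      (fun a b d => by
        rw [Submodule.coe_smul, LinearMap.map_smul_of_tower, LinearMap.smul_apply, mul_smul_comm,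
          map_smul, smul_neg])
      (fun a b d => by simp only [Submodule.coe_add, map_add, mul_add, neg_add])
      (fun a b d => by
        rw [Submodule.coe_smul, LinearMap.map_smul_of_tower, mul_smul_comm, map_smul, smul_neg])
    with hq
  have hdim : 2 * finrank F C < finrank F (E.restrictScalars F) := by
    have e : finrank F (E.restrictScalars F) = finrank F K * finrank K E := by
      rw [Module.finrank_mul_finrank F K E]
      rfl
    have h3 : finrank K (ι → F) ≤ finrank K E + 2 := hS.finrank_perp_pair u w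
    have h5 : finrank F K * 2 ≤ finrank F K * finrank K E := Nat.mul_le_mul_left _ (by omega)
    omega
  obtain ⟨⟨v, hv⟩, hv0, hsol⟩ := exists_common_zero L q hdim
  have hv1 : β u v = 0 := hv.1
  obtain ⟨s, hs⟩ := hS.exists_isK hp.sing hv1
  have hperp : ∀ i, B (ap s x0) (y i) = 0 := fun i => by
    have h : t (β x0 u * β v (y i) - β (y i) u * β x0 v)
        + -t ((β x0 u * β (y i) u / 2) * β v v) = 0 := by simpa [hL, hq, ι0] using hsol i
    rw [hs.2.2, b_sub_left, b_add_left, hS.b_smul, hS.b_smul, image_iso hS hp.sing' g, zero_add,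
      ← map_sub, ← h, ← map_neg, ← map_add, hS.symm u (y i)]
    congr 1
    ring
  have hle := le_transport hS (u' := u') (g := g) hs
  refine ⟨g⁻¹ * s * g, ⟨M.mul_mem (M.mul_mem (M.inv_mem hp.mem) (hM.mem hs)) hp.mem, hp.sing',
      hp.ne', hp.sing', hp.ne', μ0, fun h => hv0 ?_⟩, hle, μ0, hμ0, ?_⟩
  · obtain ⟨k, hk⟩ := transport_mem.1 h
    rw [← hx0, hs.2.2] at hk
    set cc := β x0 v + β v v / 2 * β x0 u
    have hd : ap g ((k - μ0) • u') = β x0 u • v - cc • u := by
      rw [sub_smul, ap_sub, hk, ← hx0]; abel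
    have hA : Pairing β u u' g (k - μ0) = 0 := by
      rw [pairing_apply, hd, map_sub, LinearMap.sub_apply, LinearMap.map_smul₂,
        LinearMap.map_smul₂, hS.symm v, hv1, hp.sing, smul_zero, smul_zero, sub_zero]
    obtain ⟨a, ha⟩ := mem_lsp.1 (by_contra fun hc => hinj _ hc hA)
    rw [hd, eq_sub_iff_add_eq, ← add_smul] at ha
    have h1 := congrArg (β w) ha
    rw [map_smul, map_smul, show β w v = 0 from hv.2, hS.symm w u, huw, smul_zero, smul_eq_mul,
      mul_one] at h1
    rw [h1, zero_smul] at ha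
    exact Subtype.ext ((smul_eq_zero.1 ha.symm).resolve_left hA0)
  · rw [pairing_apply]
    refine hS.t_zero fun ν => ?_
    rw [← hS.b_smul', ← ap_b g, ← ap_mul, mul_assoc g⁻¹, ← mul_assoc, mul_inv_cancel, one_mul,
      ap_mul, ← hx0]
    have hker : (⊤ : Submodule F K) ≤
        LinearMap.ker ((QuadraticMap.polarBilin Q (ap s x0)) ∘ₗ psi u' g) := by
      rw [← hC.sup_eq_top, sup_le_iff]
      refine ⟨fun μ hμ => ?_, fun μ hμ => ?_⟩
      · obtain ⟨k, hk⟩ := mem_lsp.1 hμ
        show B (ap s x0) (ap g (μ • u')) = 0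
        rw [← hk, ← siegel_fix_line hS hs k, ap_b, hk, hx0, image_iso hS hp.sing']
      · have h2 : ((QuadraticMap.polarBilin Q (ap s x0)) ∘ₗ psi u' g) ∘ₗ C.subtype = 0 :=
          c.ext fun i => hperp i
        exact LinearMap.congr_fun h2 ⟨μ, hμ⟩
    exact hker (Submodule.mem_top : ν ∈ (⊤ : Submodule F K))

/-- A moved line gives a pair with non-zero intersection. -/
theorem exists_pair (h4 : 4 ≤ finrank K (ι → F)) {g : Grp Q} (hg : g ∈ M) {a : V}
    (ha : β a a = 0) (hmove : ∃ μ : K, ∀ k : K, ap g (μ • a) ≠ k • ap g a) :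
    ∃ u u' h, Pair β M u u' h ∧ 1 ≤ finrank F (Lsp (K := K) u u' h) := by
  classical
  haveI := hS.finiteK
  obtain ⟨μ, hμ⟩ := hmove
  have ha0 : a ≠ 0 := fun e => hμ 0 (by rw [e]; simp)
  have hx0 : ap g a ≠ 0 := fun e => ha0 (ap_inj g (e.trans (ap_zero g).symm))
  set x0 := ap g a with hx0d
  by_cases hc : β x0 x0 = 0
  · refine ⟨x0, a, g, ⟨hg, hc, hx0, ha, ha0, μ, fun h => ?_⟩, ?_⟩
    · obtain ⟨k, hk⟩ := mem_lsp.1 h
      exact hμ k hk.symm
    · refine Submodule.one_le_finrank_iff.2 fun e => one_ne_zero (α := K) ?_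
      have : (1 : K) ∈ Lsp x0 a g := mem_lsp.2 ⟨1, by rw [one_smul, one_smul]⟩
      rwa [e, Submodule.mem_bot] at this
  obtain ⟨u, hu0, hu, hxu⟩ : ∃ u, u ≠ 0 ∧ β u u = 0 ∧ β x0 u = 0 := by
    set W : Submodule K V := LinearMap.ker (β x0) with hW
    have hd : finrank K (ι → F) ≤ finrank K W + 1 := by
      have h1 := LinearMap.finrank_range_add_finrank_ker (β x0)
      have h2 := Submodule.finrank_le (LinearMap.range (β x0))
      rw [Module.finrank_self] at h2
      show _ ≤ finrank K (LinearMap.ker (β x0)) + 1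
      omega
    obtain ⟨⟨u, hu⟩, hu0, hq⟩ := exists_isotropic (β.compl₁₂ W.subtype W.subtype) (by omega)
    exact ⟨u, fun e => hu0 (Subtype.ext e), by simpa using hq, hu⟩
  have hmoved : ∃ μ : K, μ ∉ Lsp u a g := by
    by_contra hall
    push Not at hall
    obtain ⟨k1, hk1⟩ := mem_lsp.1 (hall 1)
    obtain ⟨k, hk⟩ := mem_lsp.1 (hall μ)
    rw [one_smul] at hk1
    have hk10 : k1 ≠ 0 := fun e => hx0 (by rw [hx0d, ← hk1, e, zero_smul])
    exact hμ (k / k1) (by rw [← hk, hx0d, ← hk1, smul_smul, div_mul_cancel₀ _ hk10])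
  have hp : Pair β M u a g := ⟨hg, hu, hu0, ha, ha0, hmoved⟩
  by_cases hk : 1 ≤ finrank F (Lsp (K := K) u a g)
  · exact ⟨u, a, g, hp, hk⟩
  have hbot : ∀ ν, ν ∈ Lsp u a g → ν = (0 : K) := fun ν h => by
    have := Submodule.finrank_eq_zero.1 (Nat.lt_one_iff.1 (not_le.1 hk))
    rwa [this, Submodule.mem_bot] at h
  have h1 : (1 : K) ∉ Lsp u a g := fun h => one_ne_zero (hbot 1 h)
  rcases grow_of_perp hS hM h4 hp h1 (by rw [pairing_apply, one_smul]; exact hxu) with
    ⟨h, hh, hlt⟩ | ⟨hA', hspan⟩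
  · exact ⟨a, a, h, hh, by omega⟩
  exfalso
  choose σ b hb using hspan
  simp only [one_smul, ← hx0d] at hb
  have hbinj : Function.Injective b := fun x y e => by
    refine sub_eq_zero.1 (hbot _ (mem_lsp.2 ⟨σ x - σ y, ?_⟩))
    rw [sub_smul x y, ap_sub, hb, hb, e, sub_smul]
    abel_nf
  have hbs := Finite.injective_iff_surjective.1 hbinj
  obtain ⟨m1, hm1⟩ := hbs 1
  refine hc (hS.t_zero fun z => ?_)
  obtain ⟨m, hm⟩ := hbs z
  have h := image_iso hS ha g m m1
  rw [hb, hb, hm, hm1, ← hS.spec] at h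
  simpa [hu, hS.symm u x0, show β x0 u = 0 from hxu] using h

/-- A moved line gives two images meeting in a hyperplane of each, orthogonal to each other. -/
theorem exists_adjacent (h4 : 4 ≤ finrank K (ι → F)) {g : Grp Q} (hg : g ∈ M) {a : V}
    (ha : β a a = 0) (hmove : ∃ μ : K, ∀ k : K, ap g (μ • a) ≠ k • ap g a) :
    ∃ u u' h, Pair β M u u' h ∧ finrank F (Lsp (K := K) u u' h) + 1 = finrank F K ∧
      ∀ μ, Pairing β u u' h μ = 0 := by
  classical
  suffices H : ∀ e u u' h, finrank F K - finrank F (Lsp (K := K) u u' h) = e → Pair β M u u' h →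
      1 ≤ finrank F (Lsp (K := K) u u' h) →
      ∃ u u' h, Pair β M u u' h ∧ finrank F (Lsp (K := K) u u' h) + 1 = finrank F K ∧
        ∀ μ, Pairing β u u' h μ = 0 by
    obtain ⟨u, u', h, hp, hk⟩ := exists_pair hS hM h4 hg ha hmove
    exact H _ u u' h rfl hp hk
  intro e
  induction e using Nat.strong_induction_on with
  | _ e ih => ?_
  intro u u' h he hp hk
  have hlt := hp.finrank_lt hS
  by_cases hzero : ∃ μ, μ ∉ Lsp u u' h ∧ Pairing β u u' h μ = 0
  · obtain ⟨μ, hμ, hμ0⟩ := hzero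
    by_cases htop : finrank F (Lsp (K := K) u u' h) + 1 = finrank F K
    · refine ⟨u, u', h, hp, htop, fun ν => ?_⟩
      have hle : (⊤ : Submodule F K) ≤ LinearMap.ker (Pairing β u u' h) := by
        have hlt' : Lsp (K := K) u u' h < Lsp u u' h ⊔ Submodule.span F {μ} :=
          lt_of_le_not_ge le_sup_left fun hge =>
            hμ (hge (Submodule.mem_sup_right (Submodule.mem_span_singleton_self μ)))
        have h1 := Submodule.finrank_lt_finrank_of_lt hlt'
        rw [← Submodule.eq_top_of_finrank_eq (le_antisymm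
          (Submodule.finrank_le (Lsp (K := K) u u' h ⊔ Submodule.span F {μ})) (by omega)),
          sup_le_iff, Submodule.span_singleton_le_iff_mem]
        exact ⟨fun x hx => pairing_of_mem hS hp hx, hμ0⟩
      exact hle (Submodule.mem_top : ν ∈ (⊤ : Submodule F K))
    obtain ⟨h', hp', hlt'⟩ := grow_degenerate hS hM h4 hp hk (by omega) hμ hμ0
    exact ih _ (by omega) u' u' h' rfl hp' (by omega)
  push Not at hzero
  obtain ⟨h', hp', hle, μ, hμ, hμ0⟩ := degenerate hS hM h4 hp hk hzero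
  by_cases heq : Lsp (K := K) u u' h = Lsp u' u' h'
  · by_cases htop : finrank F (Lsp (K := K) u u' h) + 1 = finrank F K
    · refine ⟨u', u', h', hp', heq ▸ htop, fun ν => ?_⟩
      have hle' : (⊤ : Submodule F K) ≤ LinearMap.ker (Pairing β u' u' h') := by
        have hlt' : Lsp (K := K) u u' h < Lsp u u' h ⊔ Submodule.span F {μ} :=
          lt_of_le_not_ge le_sup_left fun hge =>
            hμ (hge (Submodule.mem_sup_right (Submodule.mem_span_singleton_self μ)))
        have h1 := Submodule.finrank_lt_finrank_of_lt hlt'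
        rw [← Submodule.eq_top_of_finrank_eq (le_antisymm
          (Submodule.finrank_le (Lsp (K := K) u u' h ⊔ Submodule.span F {μ})) (by omega)),
          sup_le_iff, Submodule.span_singleton_le_iff_mem]
        exact ⟨fun x hx => pairing_of_mem hS hp' (heq ▸ hx), hμ0⟩
      exact hle' (Submodule.mem_top : ν ∈ (⊤ : Submodule F K))
    obtain ⟨h'', hp'', hlt''⟩ := grow_degenerate hS hM h4 hp' (heq ▸ hk) (by rw [← heq]; omega)
      (heq ▸ hμ) hμ0
    rw [← heq] at hlt''
    exact ih _ (by omega) u' u' h'' rfl hp'' (by omega)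
  · have hlt' := Submodule.finrank_lt_finrank_of_lt (lt_of_le_of_ne hle heq)
    exact ih _ (by omega) u' u' h' rfl hp' (by omega)

end CfsgLib.OrthExt
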