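import Cfsg.Agent.Lib.Classical.OrthExtField.Meet

set_option autoImplicit false
set_option linter.unusedSectionVars false

/-!
Two orthogonal images of lines over `K` meeting in a hyperplane of each give a root element of a
singular line inside a line over `K`.
-/

namespace CfsgLib.OrthExt

open Module CfsgLib.Orth CfsgLib.Orth.Overfield

variable {F : Type*} [Field F] [Finite F] {ι : Type} [Fintype ι] [DecidableEq ι]
variable {K : Type*} [Field K] [Algebra F K] [Finite K] [Module K (ι → F)]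
  [IsScalarTower F K (ι → F)]
variable {Q : QuadraticForm F (ι → F)} {t : K →ₗ[F] F}
  {β : (ι → F) →ₗ[K] (ι → F) →ₗ[K] K}

local notation "V" => ι → F
local notation "B" => QuadraticMap.polar (DFunLike.coe Q)

/-- The moving part of an element. -/
def dev (g : Grp Q) : (ι → F) →ₗ[F] (ι → F) := lin g - LinearMap.id

theorem dev_apply (g : Grp Q) (x : V) : dev g x = ap g x - x := rfl

theorem ap_eq_dev (g : Grp Q) (x : V) : ap g x = x + dev g x := by rw [dev_apply]; abel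

/-- A functional is the product with a vector. -/
theorem exists_rep_vec (hB : Nondeg Q) (f : (ι → F) →ₗ[F] F) : ∃ x0, ∀ x, B x0 x = f x :=
  ⟨(LinearMap.BilinForm.toDual (QuadraticMap.polarBilin Q) (bilin_nondeg hB)).symm f, fun x => by
    rw [← QuadraticMap.polarBilin_apply_apply]
    exact LinearMap.BilinForm.apply_toDual_symm_apply (hB := bilin_nondeg hB) f x⟩

variable (hS : Ext Q t β) {M : Subgroup (Grp Q)}
include hS

/-- A root element from an element acting on a totally singular space and a transvection of it. -/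
theorem root_of_conj {S : Submodule F (ι → F)} (hiso : ∀ a ∈ S, ∀ b ∈ S, B a b = 0) {c τ : Grp Q}
    (hc : c ∈ M) (hτ : τ ∈ M) (hC : ∀ x, dev c x ∈ S)
    (hker : ∀ x ∈ orth Q S, dev c x = 0) {e x0 : V} (he : e ∈ S) (hx0 : B x0 e = 0)
    (hτS : ∀ s ∈ S, ap τ s = s + B s x0 • e) :
    ∃ g ∈ M, IsSiegel e (dev c x0) g := by
  set C := dev c with hCd
  have hS' : ∀ s ∈ S, s ∈ orth Q S := fun s hs w hw => hiso w hw s hs
  have hskew : ∀ x y, B (C x) y + B x (C y) = 0 := fun x y => by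
    have h := ap_b c x y
    rw [ap_eq_dev, ap_eq_dev, b_add_left, b_add_right, b_add_right, ← hCd,
      hiso _ (hC x) _ (hC y)] at h
    linear_combination h
  have hc0 : B (C x0) x0 = 0 := by
    have h := hskew x0 x0
    rw [b_comm x0 (C x0), ← two_mul] at h
    exact (mul_eq_zero.1 h).resolve_left hS.two
  have hCc : Q (C x0) = 0 := by
    have h := hiso _ (hC x0) _ (hC x0)
    rw [b_self] at h
    exact (mul_eq_zero.1 h).resolve_left hS.two
  have hcinv : ∀ y, ap c⁻¹ y = y - C y := fun y => ap_inj c (by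
    rw [ap_ap_inv, ap_eq_dev, ← hCd, map_sub, hker _ (hS' _ (hC y))]
    abel)
  have hτ' : ∀ y, C (ap τ⁻¹ y) = C y + B y e • C x0 := fun y => by
    have h : ap τ⁻¹ y - y - B y e • x0 ∈ orth Q S := fun w hw => by
      show B w _ = 0
      rw [b_sub_right, b_sub_right, b_smul_right, b_comm w (ap τ⁻¹ y), ap_b_left, inv_inv, hτS w hw,
        b_add_right, b_smul_right, b_comm w y]
      ring
    have h1 := hker _ h
    rw [map_sub, map_sub, map_smul, sub_sub, sub_eq_zero] at h1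
    exact h1
  refine ⟨τ * c * τ⁻¹ * c⁻¹, M.mul_mem (M.mul_mem (M.mul_mem hτ hc) (M.inv_mem hτ)) (M.inv_mem hc),
    ?_, hiso _ he _ (hC x0), fun y => ?_⟩
  · have h := hiso _ he _ he
    rw [b_self] at h
    exact (mul_eq_zero.1 h).resolve_left hS.two
  rw [hCc, zero_mul, zero_smul, sub_zero, ap_mul, ap_mul, ap_mul, hcinv,
    ap_eq_dev c, ← hCd, hτ', ap_add, ap_ap_inv, map_sub, hker _ (hS' _ (hC y)), sub_zero,
    b_sub_left, hiso _ (hC y) _ he, sub_zero, hτS _ (S.add_mem (hC y) (S.smul_mem _ (hC x0))),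
    b_add_left, b_smul_left, hc0, mul_zero, add_zero]
  have h := hskew y x0
  rw [show B (C y) x0 = -B y (C x0) by linear_combination h, neg_smul]
  abel

/-- The plane spanned by two lines over `K`. -/
def plane (K : Type*) [Field K] [Algebra F K] [Module K (ι → F)] [IsScalarTower F K (ι → F)]
    (u d : ι → F) : Submodule F (ι → F) := (Submodule.span K {u, d}).restrictScalars F

omit hS in
theorem mem_plane {u d x : V} : x ∈ plane K u d ↔ ∃ a b : K, a • u + b • d = x :=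
  Submodule.mem_span_pair

/-- The shared facts about one side. -/
theorem side {u u' a : V} {g s : Grp Q} (hu : β u u = 0) (hA : ∀ μ, Pairing β u u' g μ = 0)
    (ha : ∀ μ : K, β (ap g (μ • u')) a = 0) (hs : IsK β u a s) :
    let S := LinearMap.range (psi (K := K) u (1 : Grp Q)) ⊔ LinearMap.range (psi (K := K) u' g)
    (∀ x, dev s x ∈ orth Q S) ∧ (∀ x ∈ S, dev s x = 0) ∧
      ∀ x ∈ orth Q S, β x u = 0 ∧ dev s x = -β x a • u := by
  intro S
  have hdev : ∀ x, dev s x = β x u • a - (β x a + β a a / 2 * β x u) • u := fun x => by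
    rw [dev_apply, hs.2.2]; abel
  have hau : β a u = 0 := by rw [hS.symm]; exact hs.2.1
  have hU : ∀ x, (∀ y ∈ S, B y x = 0) → β x u = 0 := fun x hx => hS.beta_zero_iff.2 fun μ => by
    rw [b_comm]; exact hx _ (Submodule.mem_sup_left ⟨μ, psi_one u μ⟩)
  refine ⟨fun x => ?_, fun x hx => ?_, fun x hx => ⟨hU x hx, ?_⟩⟩
  · intro y hy
    show B y _ = 0
    obtain ⟨_, ⟨μ, rfl⟩, _, ⟨μ', rfl⟩, rfl⟩ := Submodule.mem_sup.1 hy
    rw [psi_one, psi_apply, hdev, ← hS.spec]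
    simp [hu, hau, hs.2.1, ha, show β (ap g (μ' • u')) u = 0 from hA μ']
  · obtain ⟨_, ⟨μ, rfl⟩, _, ⟨μ', rfl⟩, rfl⟩ := Submodule.mem_sup.1 hx
    rw [psi_one, psi_apply, hdev]
    simp [hu, hs.2.1, ha, show β (ap g (μ' • u')) u = 0 from hA μ']
  · rw [hdev, hU x hx]
    simp

variable (hM : Over β M) [FiniteDimensional F K]
include hM

/-- The planes of two orthogonal adjacent lines. -/
theorem adjacent_frame {u u' : V} {g : Grp Q} (hp : Pair β M u u' g)
    (hk : finrank F (Lsp (K := K) u u' g) + 1 = finrank F K)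
    (hA : ∀ μ, Pairing β u u' g μ = 0) :
    ∃ ν ζ : K, ν ∉ Lsp u u' g ∧ (∀ μ : K, ζ • u ≠ ap g (μ • u')) ∧
      β u (ap g (ν • u')) = 0 ∧ β u' (ap g⁻¹ (ζ • u)) = 0 ∧
      (∀ μ : K, ∃ (k : K) (f : F), ap g (μ • u') = k • u + f • ap g (ν • u')) ∧
      ∀ μ : K, ∃ (k : K) (f : F), μ • u = ap g (k • u') + f • ζ • u := by
  classical
  obtain ⟨ν, hν⟩ := hp.moved
  obtain ⟨ζ, hζ⟩ := lbar_lt hS hp
  refine ⟨ν, ζ, hν, hζ, by rw [hS.symm]; exact hA ν, ?_, ?_⟩
  · rw [hS.symm]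
    exact hS.beta_zero_iff.2 fun μ => by
      rw [ap_b_left, inv_inv, b_comm, hS.b_smul', ← pairing_apply, hA, mul_zero, map_zero]
  set U := LinearMap.range (psi (K := K) u (1 : Grp Q))
  set U2 := LinearMap.range (psi (K := K) u' g)
  have h1 : ∀ μ : K, ∃ (k : K) (f : F), ap g (μ • u') = k • u + f • ap g (ν • u') := by
    intro μ
    have htop : Lsp (K := K) u u' g ⊔ Submodule.span F {ν} = ⊤ := by
      refine Submodule.eq_top_of_finrank_eq (le_antisymm (Submodule.finrank_le _) ?_)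
      have hlt' : Lsp (K := K) u u' g < Lsp u u' g ⊔ Submodule.span F {ν} :=
        lt_of_le_not_ge le_sup_left fun hge =>
          hν (hge (Submodule.mem_sup_right (Submodule.mem_span_singleton_self ν)))
      have := Submodule.finrank_lt_finrank_of_lt hlt'
      omega
    obtain ⟨l, hl, _, hf, e⟩ :=
      Submodule.mem_sup.1 (show μ ∈ Lsp (K := K) u u' g ⊔ Submodule.span F {ν} by rw [htop]; trivial)
    obtain ⟨f, rfl⟩ := Submodule.mem_span_singleton.1 hf
    obtain ⟨k, hk⟩ := mem_lsp.1 hl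
    exact ⟨k, f, by rw [← e, add_smul, ap_add, hk, smul_assoc, ap_smul]⟩
  refine ⟨h1, fun μ => ?_⟩
  have hle : U2 ⊔ Submodule.span F {ζ • u} ≤ U ⊔ Submodule.span F {ap g (ν • u')} := by
    refine sup_le ?_ ((Submodule.span_singleton_le_iff_mem _ _).2
      (Submodule.mem_sup_left ⟨ζ, psi_one u ζ⟩))
    rintro _ ⟨μ', rfl⟩
    obtain ⟨k, f, e⟩ := h1 μ'
    rw [psi_apply, e]
    exact Submodule.add_mem_sup ⟨k, psi_one u k⟩ (Submodule.mem_span_singleton.2 ⟨f, rfl⟩)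
  have hinj2 : Function.Injective (psi (K := K) u' g) := fun a b e =>
    smul_left_injective K hp.ne' (ap_inj g e)
  have heq : U2 ⊔ Submodule.span F {ζ • u} = U ⊔ Submodule.span F {ap g (ν • u')} := by
    refine Submodule.eq_of_le_of_finrank_le hle ?_
    have hlt : U2 < U2 ⊔ Submodule.span F {ζ • u} := lt_of_le_not_ge le_sup_left fun hge => by
      obtain ⟨μ', h⟩ := hge (Submodule.mem_sup_right (Submodule.mem_span_singleton_self (ζ • u)))
      exact hζ μ' h.symm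
    have a1 := Submodule.finrank_lt_finrank_of_lt hlt
    have a2 : finrank F U2 = finrank F K := LinearMap.finrank_range_of_inj hinj2
    have a3 := Submodule.finrank_add_le_finrank_add_finrank U (Submodule.span F {ap g (ν • u')})
    have a4 := LinearMap.finrank_range_le (psi (K := K) u (1 : Grp Q))
    have a5 : finrank F (Submodule.span F {ap g (ν • u')}) ≤ 1 := by
      rw [finrank_span_singleton]
      intro e
      exact hν (mem_lsp.2 ⟨0, by rw [zero_smul, e]⟩)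
    have a4' : finrank F U ≤ finrank F K := a4
    omega
  have hmem : μ • u ∈ U2 ⊔ Submodule.span F {ζ • u} := by
    rw [heq]; exact Submodule.mem_sup_left ⟨μ, psi_one u μ⟩
  obtain ⟨_, ⟨k, rfl⟩, _, hf, e⟩ := Submodule.mem_sup.1 hmem
  obtain ⟨f, rfl⟩ := Submodule.mem_span_singleton.1 hf
  exact ⟨k, f, by rw [← e, psi_apply]⟩

/-- In a singular plane over `K` a rank one transvection arises from two root groups. -/
theorem plane_transvection {u u' : V} {g : Grp Q} (hp : Pair β M u u' g)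
    (hr : 1 ≤ finrank F (Lsp (K := K) u u' g)) (hA : ∀ μ, Pairing β u u' g μ = 0)
    {ν ζ : K} (hν : ν ∉ Lsp u u' g) (hζ : ∀ μ : K, ζ • u ≠ ap g (μ • u'))
    (h2 : ∀ μ : K, ∃ (k : K) (f : F), ap g (μ • u') = k • u + f • ap g (ν • u'))
    (h3 : ∀ μ : K, ∃ (k : K) (f : F), μ • u = ap g (k • u') + f • ζ • u)
    (hd' : β u' (ap g⁻¹ (ζ • u)) = 0) (hdd : β (ap g (ν • u')) (ap g (ν • u')) = 0)
    (honto : ∀ x, x ∈ plane K u (ap g (ν • u')) ↔
      β u' (ap g⁻¹ x) = 0 ∧ β (ap g⁻¹ (ζ • u)) (ap g⁻¹ x) = 0) :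
    ∃ τ ∈ M, ∃ (e x0 : V), e ≠ 0 ∧ (∃ k : K, k • u = e) ∧ (∀ μ : K, B x0 (μ • u) = 0) ∧
      β x0 (ap g (ν • u')) ≠ 0 ∧
      ∀ x ∈ plane K u (ap g (ν • u')), ap τ x = x + B x x0 • e := by
  classical
  set d := ap g (ν • u') with hd
  set d' := ap g⁻¹ (ζ • u) with hd'd
  set Pl := plane K u d with hPl
  have hud : β u d = 0 := by rw [hS.symm]; exact hA ν
  have hd0 : ∀ a : K, d ≠ a • u := fun a e => hν (mem_lsp.2 ⟨a, e.symm⟩)
  have hu'd' : ∀ a : K, d' ≠ a • u' := fun a e => hζ a (by rw [← e, hd'd, ap_ap_inv])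
  -- parameters
  obtain ⟨lam, hlamL, hlam⟩ := Submodule.exists_mem_ne_zero_of_ne_bot
    (Submodule.one_le_finrank_iff.1 hr)
  obtain ⟨k1, hk1⟩ := mem_lsp.1 hlamL
  obtain ⟨y', hy1', hy2'⟩ : ∃ y, β u' y = 0 ∧ β d' y ≠ 0 := by
    by_contra hc
    push Not at hc
    obtain ⟨a, ha⟩ := hS.mem_line hc
    exact hu'd' a ha
  obtain ⟨v', hv1', hv2'⟩ : ∃ v', β u' v' = 0 ∧ β d' v' = lam :=
    ⟨(lam / β d' y') • y', by rw [map_smul, hy1', smul_zero],
      by rw [map_smul, smul_eq_mul, div_mul_cancel₀ _ hy2']⟩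
  obtain ⟨y, hy1, hy2⟩ : ∃ y, β u y = 0 ∧ β d y ≠ 0 := by
    by_contra hc
    push Not at hc
    obtain ⟨a, ha⟩ := hS.mem_line hc
    exact hd0 a ha
  obtain ⟨v, hv1, hv2⟩ : ∃ v, β u v = 0 ∧ β d v = ζ :=
    ⟨(ζ / β d y) • y, by rw [map_smul, hy1, smul_zero],
      by rw [map_smul, smul_eq_mul, div_mul_cancel₀ _ hy2]⟩
  obtain ⟨σ, hσ⟩ := hS.exists_isK hp.sing hv1
  obtain ⟨s', hs'⟩ := hS.exists_isK hp.sing' hv1'
  set ρ := g * s' * g⁻¹ with hρd
  have hρM : ρ ∈ M := M.mul_mem (M.mul_mem hp.mem (hM.mem hs')) (M.inv_mem hp.mem)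
  have hσM := hM.mem hσ
  set e1 := ap g (lam • u') with he1
  have he10 : e1 ≠ 0 := fun e => hlam ((smul_eq_zero.1 (ap_inj g (e.trans (ap_zero g).symm))).resolve_right hp.ne')
  set R := dev ρ with hR
  set S := dev σ with hSd
  have hperpu : ∀ x ∈ Pl, β x u = 0 := fun x hx => by
    obtain ⟨a, b, rfl⟩ := mem_plane.1 hx
    simp [hp.sing, hS.symm d u, hud]
  have hSx : ∀ x ∈ Pl, S x = -β x v • u := fun x hx => by
    rw [hSd, dev_apply, hσ.2.2, hperpu x hx]
    simp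
  have hRx : ∀ x ∈ Pl, R x = -ap g (β (ap g⁻¹ x) v' • u') := fun x hx => by
    have h := ((honto x).1 hx).1
    rw [hR, dev_apply, hρd, ap_mul, ap_mul, hs'.2.2, hS.symm (ap g⁻¹ x) u', h]
    simp [ap_sub, ap_ap_inv]
  have huPl : ∀ k : K, k • u ∈ Pl := fun k => mem_plane.2 ⟨k, 0, by simp⟩
  have hU2 : ∀ μ : K, ap g (μ • u') ∈ Pl := fun μ => by
    obtain ⟨k, f, e⟩ := h2 μ
    exact mem_plane.2 ⟨k, algebraMap F K f, by rw [e, algebraMap_smul]⟩
  have hRU2 : ∀ μ : K, R (ap g (μ • u')) = 0 := fun μ => by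
    rw [hRx _ (hU2 μ), ap_inv_ap, LinearMap.map_smul₂, hv1']
    simp
  have hRζ : R (ζ • u) = -e1 := by rw [hRx _ (huPl ζ), ← hd'd, hv2']
  have hRU : ∀ μ : K, ∃ f : F, R (μ • u) = f • e1 := fun μ => by
    obtain ⟨k, f, e⟩ := h3 μ
    exact ⟨-f, by rw [e, map_add, map_smul, hRU2, hRζ, zero_add, smul_neg, neg_smul]⟩
  have hSU : ∀ μ : K, S (μ • u) = 0 := fun μ => by
    rw [hSx _ (huPl μ), LinearMap.map_smul₂, hv1]
    simp
  have hSe1 : S e1 = 0 := by rw [← hk1, hSU]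
  have hRPl : ∀ x ∈ Pl, R x ∈ Pl := fun x hx => by
    rw [hRx x hx]; exact Pl.neg_mem (hU2 _)
  have hSPl : ∀ x ∈ Pl, S x ∈ Pl := fun x hx => by rw [hSx x hx]; exact huPl _
  have hRR : ∀ x ∈ Pl, R (R x) = 0 := fun x hx => by
    rw [hRx x hx, map_neg, hRU2, neg_zero]
  have hSS : ∀ x ∈ Pl, S (S x) = 0 := fun x hx => by rw [hSx x hx, hSU]
  have hSRS : ∀ x ∈ Pl, S (R (S x)) = 0 := fun x hx => by
    rw [hSx x hx]
    obtain ⟨f, hf⟩ := hRU (-β x v)
    rw [hf, map_smul, hSe1, smul_zero]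
  -- the two commutators
  set c1 := ρ * σ * ρ⁻¹ * σ⁻¹ with hc1
  set c2 := c1 * ρ * c1⁻¹ * ρ⁻¹ with hc2
  have hinvR : ∀ x ∈ Pl, ap ρ⁻¹ x = x - R x := fun x hx => ap_inj ρ (by
    rw [ap_ap_inv, ap_eq_dev, ← hR, map_sub, hRR x hx]; abel)
  have hinvS : ∀ x ∈ Pl, ap σ⁻¹ x = x - S x := fun x hx => ap_inj σ (by
    rw [ap_ap_inv, ap_eq_dev, ← hSd, map_sub, hSS x hx]; abel)
  have hgR : ∀ x, ap ρ x = x + R x := fun x => ap_eq_dev ρ x
  have hgS : ∀ x, ap σ x = x + S x := fun x => ap_eq_dev σ x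
  have hc1x : ∀ x ∈ Pl, ap c1 x = x + R (S x) - S (R x) - R (S (R x)) := fun x hx => by
    have a1 := hSPl x hx
    have a2 := hRPl x hx
    have a3 := hRPl _ a1
    rw [hc1, ap_mul, ap_mul, ap_mul, hinvS x hx, hinvR _ (Pl.sub_mem hx a1), hgS, hgR]
    simp only [map_add, map_sub, hSS x hx, hSRS x hx, hRR x hx, hRR _ a1, map_zero]
    abel
  have hc1inv : ∀ x ∈ Pl, ap c1⁻¹ x = x - R (S x) + S (R x) + R (S (R x)) := fun x hx => by
    have a1 := hSPl x hx
    have a2 := hRPl x hx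
    have a3 := hRPl _ a1
    have a4 := hSPl _ a2
    have a5 := hRPl _ a4
    refine ap_inj c1 ?_
    rw [ap_ap_inv, hc1x _ (Pl.add_mem (Pl.add_mem (Pl.sub_mem hx a3) a4) a5)]
    simp only [map_add, map_sub, hSRS x hx, hRR _ a1, hRR x hx, hSS _ a2, hRR _ a4, hSRS _ a2, map_zero]
    abel
  have hc2x : ∀ x ∈ Pl, ap c2 x = x + (2 : F) • R (S (R x)) := fun x hx => by
    have a1 := hSPl x hx
    have a2 := hRPl x hx
    have a3 := hRPl _ a1
    have a4 := hSPl _ a2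
    have a5 := hRPl _ a4
    have b0 := Pl.sub_mem hx a2
    have b1 := hSPl _ b0
    have b2 := hRPl _ b0
    have b3 := hRPl _ b1
    have b4 := hSPl _ b2
    have b5 := hRPl _ b4
    have hb := Pl.add_mem (Pl.add_mem (Pl.sub_mem b0 b3) b4) b5
    rw [hc2, ap_mul, ap_mul, ap_mul, hinvR x hx, hc1inv _ b0, hgR, hc1x _ (Pl.add_mem hb (hRPl _ hb))]
    simp only [map_add, map_sub, hRR x hx, hRR _ a1, hRR _ a4, hSS x hx, hSS _ a2, hSRS x hx,
      hSRS _ a2, map_zero]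
    rw [two_smul]
    abel
  -- the functional
  obtain ⟨x0, hx0U, hx0d⟩ : ∃ x0, (∀ μ : K, B x0 (μ • u) = 0) ∧ B x0 d = 1 := by
    have hdU : d ∉ LinearMap.range (psi (K := K) u (1 : Grp Q)) := by
      rintro ⟨a, ha⟩
      exact hd0 a (by rw [← ha, psi_one])
    obtain ⟨f, hf, hker⟩ := Submodule.exists_le_ker_of_notMem hdU
    obtain ⟨x0, hx0⟩ := exists_rep_vec hS.nd ((f d)⁻¹ • f)
    refine ⟨x0, fun μ => ?_, ?_⟩
    · rw [hx0, LinearMap.smul_apply, show f (μ • u) = 0 from hker ⟨μ, psi_one u μ⟩, smul_zero]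
    · rw [hx0, LinearMap.smul_apply, smul_eq_mul, inv_mul_cancel₀ hf]
  have hRSR : ∀ x ∈ Pl, R (S (R x)) = B x0 (R x) • e1 := fun x hx => by
    obtain ⟨k, f, e⟩ := h2 (β (ap g⁻¹ x) v')
    rw [hRx x hx, e, neg_add, map_add, map_neg, hSU, neg_zero, zero_add, map_neg, map_smul,
      hSx d (mem_plane.2 ⟨0, 1, by simp⟩), hv2, neg_smul, smul_neg, neg_neg, map_smul, hRζ,
      b_add_right, ← neg_one_smul F (k • u), b_smul_right, hx0U, ← neg_one_smul F (f • d),
      b_smul_right, b_smul_right, hx0d]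
    module
  obtain ⟨W', hW'⟩ := Submodule.exists_isCompl Pl
  set φ : V →ₗ[F] F := ((2 : F) • ((QuadraticMap.polarBilin Q x0).comp (R ∘ₗ Pl.subtype))).comp
    (Submodule.projectionOnto Pl W' hW') with hφ
  obtain ⟨x1, hx1⟩ := exists_rep_vec hS.nd φ
  have hx1Pl : ∀ x ∈ Pl, B x1 x = 2 * B x0 (R x) := fun x hx => by
    rw [hx1, hφ, LinearMap.comp_apply, Submodule.projectionOnto_apply_left hW' ⟨x, hx⟩]
    rfl
  have hx1U : ∀ μ : K, B x1 (μ • u) = 0 := fun μ => by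
    obtain ⟨f, hf⟩ := hRU μ
    rw [hx1Pl _ (huPl μ), hf, b_smul_right, ← hk1, hx0U, mul_zero, mul_zero]
  refine ⟨c2, ?_, e1, x1, he10, ⟨k1, hk1⟩, hx1U, fun hb => ?_, fun x hx => ?_⟩
  · rw [hc2, hc1]
    exact M.mul_mem (M.mul_mem (M.mul_mem (M.mul_mem (M.mul_mem (M.mul_mem hρM hσM) (M.inv_mem hρM))
      (M.inv_mem hσM)) hρM) (M.inv_mem (M.mul_mem (M.mul_mem (M.mul_mem hρM hσM) (M.inv_mem hρM))
      (M.inv_mem hσM)))) (M.inv_mem hρM)
  · -- the functional is not zero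
    have hd'mem := (honto (ζ • u)).1 (huPl ζ)
    rw [← hd'd] at hd'mem
    have hx : ap g ((ν / lam) • d') ∈ Pl := (honto _).2 ⟨by
      rw [ap_inv_ap, map_smul, hd', smul_zero], by
      rw [ap_inv_ap, map_smul, hd'mem.2, smul_zero]⟩
    obtain ⟨a, b, e⟩ := mem_plane.1 hx
    have h0 : B x1 (ap g ((ν / lam) • d')) = 0 := by
      rw [← e, b_add_right, hx1U, hS.b_smul', hb, mul_zero, map_zero, add_zero]
    rw [hx1Pl _ hx, hRx _ hx, ap_inv_ap, LinearMap.map_smul₂, hv2', smul_eq_mul,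
      div_mul_cancel₀ _ hlam, ← hd, ← neg_one_smul F d, b_smul_right, hx0d] at h0
    simp only [mul_one, mul_neg, neg_eq_zero] at h0
    exact hS.two h0
  · rw [hc2x x hx, hRSR x hx, smul_smul, b_comm x x1, hx1Pl x hx]

/-- Two adjacent orthogonal images give all root elements of singular lines inside some line. -/
theorem root_line (h4 : 4 ≤ finrank K (ι → F)) {u u' : V} {g : Grp Q} (hp : Pair β M u u' g)
    (hk : finrank F (Lsp (K := K) u u' g) + 1 = finrank F K)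
    (hA : ∀ μ, Pairing β u u' g μ = 0) :
    ∃ e0 : V, β e0 e0 = 0 ∧ e0 ≠ 0 ∧ ∀ k : K, GoodAt Q M e0 (k • e0) := by
  classical
  haveI := hS.finiteK
  obtain ⟨ν, ζ, hν, hζ, hud, hu'd', h2, h3⟩ := adjacent_frame hS hM hp hk hA
  set d := ap g (ν • u') with hd
  set d' := ap g⁻¹ (ζ • u) with hd'd
  have hd0 : ∀ a : K, d ≠ a • u := fun a e => hν (mem_lsp.2 ⟨a, e.symm⟩)
  have hr2 := hS.deg.two_le
  -- finishing from a root element
  have finish : ∀ (e c : V), e ≠ 0 → c ≠ 0 → (∃ k : K, k • u = c) → (∃ k : K, k • u = e) →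
      (∀ k : K, GoodAt Q M c (k • u)) →
      ∃ e0 : V, β e0 e0 = 0 ∧ e0 ≠ 0 ∧ ∀ k : K, GoodAt Q M e0 (k • e0) := by
    rintro e c - hc ⟨ξ, rfl⟩ - h
    exact ⟨ξ • u, by rw [map_smul, LinearMap.map_smul₂, hp.sing, smul_zero, smul_zero], hc,
      fun k => by rw [smul_smul]; exact h _⟩
  set A0 : Submodule K V := LinearMap.ker (β u) ⊓ LinearMap.ker (β d)
  set A1 : Submodule K V := LinearMap.ker (β u') ⊓ LinearMap.ker (β d')
  have ha0 : ∀ a ∈ A0, ∀ μ : K, β (ap g (μ • u')) a = 0 := fun a ha μ => by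
    obtain ⟨k, f, e⟩ := h2 μ
    rw [e, map_add, LinearMap.add_apply, LinearMap.map_smul₂, LinearMap.map_smul_of_tower,
      LinearMap.smul_apply, show β u a = 0 from ha.1, show β d a = 0 from ha.2, smul_zero, smul_zero,
      add_zero]
  have hA' : ∀ μ, Pairing β u' u g⁻¹ μ = 0 := fun μ => by
    rw [pairing_apply]
    refine hS.beta_zero_iff.2 fun μ' => ?_
    rw [ap_b_left, inv_inv, b_comm, hS.b_smul', ← pairing_apply, hA, mul_zero, map_zero]
  have ha1 : ∀ a ∈ A1, ∀ μ : K, β (ap g⁻¹ (μ • u)) a = 0 := fun a ha μ => by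
    obtain ⟨k, f, e⟩ := h3 μ
    rw [e, ap_add, ap_inv_ap, ap_smul, map_add, LinearMap.add_apply, LinearMap.map_smul₂,
      LinearMap.map_smul_of_tower, LinearMap.smul_apply, show β u' a = 0 from ha.1, ← hd'd,
      show β d' a = 0 from ha.2, smul_zero, smul_zero, add_zero]
  set U := LinearMap.range (psi (K := K) u (1 : Grp Q))
  set U2 := LinearMap.range (psi (K := K) u' g)
  set S := U ⊔ U2
  obtain ⟨x0, hx0U, hx0d⟩ : ∃ x0, (∀ μ : K, B x0 (μ • u) = 0) ∧ B x0 d = 1 := by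
    have hdU : d ∉ U := by
      rintro ⟨a, ha⟩
      exact hd0 a (by rw [← ha, psi_one])
    obtain ⟨f, hf, hker⟩ := Submodule.exists_le_ker_of_notMem hdU
    obtain ⟨x0, hx0⟩ := exists_rep_vec hS.nd ((f d)⁻¹ • f)
    refine ⟨x0, fun μ => ?_, ?_⟩
    · rw [hx0, LinearMap.smul_apply, show f (μ • u) = 0 from hker ⟨μ, psi_one u μ⟩, smul_zero]
    · rw [hx0, LinearMap.smul_apply, smul_eq_mul, inv_mul_cancel₀ hf]
  have hx0u : β x0 u = 0 := hS.beta_zero_iff.2 hx0U
  have hmap : ∀ x ∈ orth Q S, ap g⁻¹ x ∈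
      orth Q (LinearMap.range (psi (K := K) u' (1 : Grp Q)) ⊔ LinearMap.range (psi (K := K) u g⁻¹)) := by
    intro x hx y hy
    show B y _ = 0
    obtain ⟨_, ⟨μ, rfl⟩, _, ⟨μ', rfl⟩, rfl⟩ := Submodule.mem_sup.1 hy
    rw [psi_one, psi_apply, b_comm, ap_b_left, inv_inv, ap_add, ap_ap_inv, b_comm, add_comm]
    exact hx (μ' • u + ap g (μ • u')) (Submodule.add_mem_sup ⟨μ', psi_one u μ'⟩ ⟨μ, rfl⟩)
  by_cases hgen : ∃ a ∈ A0, ∃ a' ∈ A1, ∃ s', IsK β u' a' s' ∧
      β (dev (g * s' * g⁻¹) x0) a ≠ 0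
  · obtain ⟨a, ha, a', ha', s', hs', hne⟩ := hgen
    obtain ⟨z, hz⟩ := hS.exists_isK hp.sing (v := a) ha.1
    obtain ⟨z1, z2, z3⟩ := side hS hp.sing hA (ha0 a ha) hz
    obtain ⟨y1, y2, y3⟩ := side hS hp.sing' hA' (ha1 a' ha') hs'
    obtain ⟨z', hz'⟩ : ∃ z', z' = g * s' * g⁻¹ := ⟨_, rfl⟩
    rw [← hz'] at hne
    have hz'M : z' ∈ M := hz' ▸ M.mul_mem (M.mul_mem hp.mem (hM.mem hs')) (M.inv_mem hp.mem)
    have hdev' : ∀ x, dev z' x = ap g (dev s' (ap g⁻¹ x)) := fun x => by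
      rw [dev_apply, dev_apply, hz', ap_mul, ap_mul, ap_sub, ap_ap_inv]
    have w1 : ∀ x, dev z' x ∈ orth Q S := fun x y hy => by
      show B y _ = 0
      obtain ⟨_, ⟨μ, rfl⟩, _, ⟨μ', rfl⟩, rfl⟩ := Submodule.mem_sup.1 hy
      rw [hdev', b_comm, ap_b_left, psi_one, psi_apply, ap_add, ap_inv_ap, b_comm]
      exact y1 _ (ap g⁻¹ (μ • u) + μ' • u') (by
        rw [add_comm]; exact Submodule.add_mem_sup ⟨μ', psi_one u' μ'⟩ ⟨μ, rfl⟩)
    have w2 : ∀ x ∈ S, dev z' x = 0 := fun x hx => by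
      obtain ⟨_, ⟨μ, rfl⟩, _, ⟨μ', rfl⟩, rfl⟩ := Submodule.mem_sup.1 hx
      rw [hdev', psi_one, psi_apply, ap_add, ap_inv_ap, add_comm,
        y2 (μ' • u' + ap g⁻¹ (μ • u)) (Submodule.add_mem_sup ⟨μ', psi_one u' μ'⟩ ⟨μ, rfl⟩), ap_zero]
    have w3 : ∀ x ∈ orth Q S, dev z' x ∈ S := fun x hx => by
      rw [hdev', (y3 _ (hmap x hx)).2]
      exact Submodule.mem_sup_right ⟨_, rfl⟩
    have v3 : ∀ x ∈ orth Q S, dev z x ∈ S := fun x hx => by
      rw [(z3 x hx).2]
      exact Submodule.mem_sup_left ⟨_, psi_one u _⟩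
    have hsub : ∀ x ∈ S, x ∈ orth Q S := fun x hx y hy => by
      show B y x = 0
      have hi : ∀ μ μ' : K, B (μ • u) (ap g (μ' • u')) = 0 := fun μ μ' => by
        rw [hS.b_smul, hS.symm, ← pairing_apply, hA, mul_zero, map_zero]
      have hii : ∀ μ μ' : K, B (μ • u) (μ' • u) = 0 := fun μ μ' => by
        have := image_iso hS hp.sing (1 : Grp Q) μ μ'
        rwa [ap_one, ap_one] at this
      obtain ⟨_, ⟨μ, rfl⟩, _, ⟨μ', rfl⟩, rfl⟩ := Submodule.mem_sup.1 hx
      obtain ⟨_, ⟨m, rfl⟩, _, ⟨m', rfl⟩, rfl⟩ := Submodule.mem_sup.1 hy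
      rw [psi_one, psi_one, psi_apply, psi_apply, b_add_left, b_add_right, b_add_right, hii,
        hi, b_comm (ap g (m' • u')), hi, image_iso hS hp.sing']
      simp
    set c := z * z' * z⁻¹ * z'⁻¹ with hc
    have hcx : ∀ x, ap c x = x + (dev z (dev z' x) - dev z' (dev z x)) := by
      intro x
      obtain ⟨y, rfl⟩ : ∃ y, x = ap (z' * z) y := ⟨ap (z' * z)⁻¹ x, (ap_ap_inv _ _).symm⟩
      rw [← ap_mul, show c * (z' * z) = z * z' by rw [hc]; group, ap_mul, ap_mul, ap_eq_dev z',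
        ap_eq_dev z, ap_eq_dev z y, ap_eq_dev z' (y + _)]
      have hC : ∀ w ∈ orth Q S, dev z (dev z' w) - dev z' (dev z w) = 0 := fun w hw => by
        rw [z2 _ (w3 w hw), w2 _ (v3 w hw), sub_zero]
      have k1 := hC _ (z1 y)
      have k2 := hC _ (w1 (y + dev z y))
      simp only [map_add] at k1 k2 ⊢
      linear_combination (norm := abel) -k1 - k2
    have hdevc : ∀ x, dev c x = dev z (dev z' x) - dev z' (dev z x) := fun x => by
      rw [dev_apply, hcx]; abel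
    have hcM : c ∈ M := M.mul_mem (M.mul_mem (M.mul_mem (hM.mem hz) hz'M) (M.inv_mem (hM.mem hz)))
      (M.inv_mem hz'M)
    have hCS : ∀ x, dev c x ∈ S := fun x => by
      rw [hdevc]; exact S.sub_mem (v3 _ (w1 x)) (w3 _ (z1 x))
    have hCk : ∀ x ∈ orth Q S, dev c x = 0 := fun x hx => by
      rw [hdevc, z2 _ (w3 x hx), w2 _ (v3 x hx), sub_zero]
    have hNx0 : dev z x0 ∈ S := by
      rw [dev_apply, hz.2.2, hx0u, zero_smul, add_zero, mul_zero, add_zero, sub_sub_cancel_left,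
        ← neg_smul]
      exact Submodule.mem_sup_left ⟨_, psi_one u _⟩
    have hCx0 : dev c x0 = -β (dev z' x0) a • u := by
      rw [hdevc, w2 _ hNx0, (z3 _ (w1 x0)).2, sub_zero]
    have hc0 : dev c x0 ≠ 0 := by
      rw [hCx0]; exact smul_ne_zero (neg_ne_zero.2 hne) hp.ne
    obtain ⟨y, hy1, hy2⟩ : ∃ y, β u y = 0 ∧ β d y ≠ 0 := by
      by_contra hcon
      push Not at hcon
      obtain ⟨b, hb⟩ := hS.mem_line hcon
      exact hd0 b hb
    have hroot : ∀ k : K, ∃ h ∈ M, IsSiegel (k • u) (dev c x0) h := by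
      intro k
      obtain ⟨τ, hτ⟩ := hS.exists_isK hp.sing (v := (-k / β d y) • y) (by rw [map_smul, hy1, smul_zero])
      refine root_of_conj hS (fun a ha b hb => hsub b hb a ha) hcM (hM.mem hτ) hCS hCk
        (Submodule.mem_sup_left ⟨k, psi_one u k⟩) (hx0U k) fun s hs => ?_
      obtain ⟨_, ⟨μ, rfl⟩, _, ⟨μ', rfl⟩, rfl⟩ := Submodule.mem_sup.1 hs
      obtain ⟨k', f, e⟩ := h2 μ'
      rw [psi_one, psi_apply, e, hτ.2.2, b_comm _ x0, b_add_right, b_add_right, hx0U, hx0U,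
        b_smul_right, hx0d]
      have hdy : β d y * (β d y)⁻¹ = 1 := mul_inv_cancel₀ hy2
      simp only [map_add, map_smul, LinearMap.add_apply, LinearMap.smul_apply,
        LinearMap.map_smul_of_tower, hp.sing, hS.symm d u, hud, hy1, smul_eq_mul, mul_zero, smul_zero,
        add_zero, zero_add, mul_one, zero_smul]
      rw [mul_smul_comm, div_mul_cancel₀ _ hy2, smul_neg, neg_smul, sub_neg_eq_add, smul_assoc]
    refine finish _ _ hp.ne hc0 ⟨_, hCx0.symm⟩ ⟨1, one_smul K u⟩ fun k => ?_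
    have hQc : Q (dev c x0) = 0 := by rw [hCx0]; exact hS.sing_smul hp.sing _
    refine goodAt_symm (hS.sing_smul hp.sing k) hQc ⟨?_, fun s h hh => ?_⟩
    · obtain ⟨h, -, hh⟩ := hroot k
      exact hh.2.1
    · obtain ⟨h', hh'M, hh'⟩ := hroot (s • k)
      have : h = h' := by
        refine ext_ap fun x => ?_
        rw [hh.2.2, hh'.2.2, q_smul, hQc, smul_assoc, b_smul_right, b_smul_right]
        module
      exact this ▸ hh'M
  push Not at hgen
  -- the exceptional case: four dimensions and a singular plane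
  set κ := β (ap g⁻¹ x0) u' with hκd
  have hκ : κ ≠ 0 := fun h => by
    have := hS.beta_zero_iff.1 h ν
    rw [ap_b_left, inv_inv, ← hd, hx0d] at this
    exact one_ne_zero this
  have hmaps : ∀ a' ∈ A1, ap g a' ∈ plane K u d := by
    intro a' ha'
    have hpair : ∀ a ∈ A0, β (ap g a') a = 0 := fun a ha => by
      obtain ⟨s', hs'⟩ := hS.exists_isK hp.sing' (v := κ⁻¹ • a') (by rw [map_smul, ha'.1, smul_zero])
      have h := hgen a ha _ (A1.smul_mem κ⁻¹ ha') s' hs'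
      rw [dev_apply, ap_mul, ap_mul, hs'.2.2, ← hκd, smul_smul, mul_inv_cancel₀ hκ, one_smul,
        ap_sub, ap_add, ap_ap_inv, add_sub_assoc, add_sub_cancel_left, map_sub,
        LinearMap.sub_apply, ha0 a ha, sub_zero] at h
      exact h
    obtain ⟨p, q, e⟩ := hS.mem_pair fun y hy1 hy2 => hpair y ⟨hy1, hy2⟩
    exact mem_plane.2 ⟨p, q, e.symm⟩
  have hA1d : finrank F K * 2 ≤ finrank F (A1.restrictScalars F) := by
    have e : finrank F (A1.restrictScalars F) = finrank F K * finrank K A1 := by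
      rw [Module.finrank_mul_finrank F K A1]
      rfl
    have h3 : finrank K (ι → F) ≤ finrank K A1 + 2 := hS.finrank_perp_pair u' d'
    rw [e]
    exact Nat.mul_le_mul_left _ (by omega)
  have honto : ∀ x, x ∈ plane K u d → β u' (ap g⁻¹ x) = 0 ∧ β d' (ap g⁻¹ x) = 0 := by
    intro x hx
    set f := (lin g).comp (A1.restrictScalars F).subtype
    have hinj : Function.Injective f := fun a b e => Subtype.ext (ap_inj g e)
    have hle : LinearMap.range f ≤ plane K u d := by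
      rintro _ ⟨a, rfl⟩
      exact hmaps _ a.2
    have hPd : finrank F (plane K u d) ≤ finrank F K * 2 := by
      have e : finrank F (plane K u d) = finrank F K * finrank K (Submodule.span K {u, d}) := by
        rw [Module.finrank_mul_finrank F K (Submodule.span K {u, d})]
        rfl
      rw [e]
      refine Nat.mul_le_mul_left _ ?_
      have := finrank_span_finset_le_card (R := K) ({u, d} : Finset V)
      rw [Set.finrank, Finset.coe_pair] at this
      exact this.trans Finset.card_le_two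
    have heq := Submodule.eq_of_le_of_finrank_le hle (by
      rw [LinearMap.finrank_range_of_inj hinj]; exact hPd.trans hA1d)
    rw [← heq] at hx
    obtain ⟨a, rfl⟩ := hx
    show β u' (ap g⁻¹ (ap g a)) = 0 ∧ _
    rw [show f a = ap g a from rfl, ap_inv_ap]
    exact a.2
  have hdd : β d d = 0 := hS.beta_zero_iff.2 fun k => by
    have h := (honto (k • d) (mem_plane.2 ⟨0, k, by simp⟩)).1
    rw [hS.symm] at h
    have h2' := hS.beta_zero_iff.1 h ν
    rwa [ap_b_left, inv_inv, ← hd, b_comm] at h2'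
  obtain ⟨τ, hτM, e, x1, he0, he, hx1U, hx1d, hτx⟩ := plane_transvection hS hM hp (by omega) hA hν
    hζ h2 h3 hu'd' hdd (fun x => ⟨honto x, fun h => by
      have := hmaps (ap g⁻¹ x) ⟨h.1, h.2⟩
      rwa [ap_ap_inv] at this⟩)
  have hPiso : ∀ a ∈ plane K u d, ∀ b ∈ plane K u d, B a b = 0 := by
    intro a ha b hb
    obtain ⟨p, q, rfl⟩ := mem_plane.1 ha
    obtain ⟨p', q', rfl⟩ := mem_plane.1 hb
    rw [← hS.spec]
    simp [hp.sing, hud, hS.symm d u, hdd]
  have hx1u : β x1 u = 0 := hS.beta_zero_iff.2 hx1U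
  have hroot : ∀ lam : K, ∃ h ∈ M, IsSiegel e (-(lam * β x1 d) • u) h := by
    intro lam
    obtain ⟨z, hz⟩ := hS.exists_isK hp.sing (v := lam • d) (by rw [map_smul, hud, smul_zero])
    have hdev : ∀ x, dev z x = β x u • lam • d - (lam * β x d) • u := fun x => by
      rw [dev_apply, hz.2.2]
      simp only [map_smul, LinearMap.smul_apply, smul_eq_mul, hdd, mul_zero, zero_div, zero_mul,
        add_zero]
      abel
    obtain ⟨h, hh, hs⟩ := root_of_conj hS (x0 := x1) hPiso (hM.mem hz) hτM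
      (fun x => by
        rw [hdev]
        exact mem_plane.2 ⟨-(lam * β x d), β x u * lam, by rw [neg_smul, mul_smul (β x u) lam d]; abel⟩)
      (fun x hx => by
        have a1 : β x u = 0 := hS.beta_zero_iff.2 fun μ => by
          rw [b_comm]; exact hx _ (mem_plane.2 ⟨μ, 0, by simp⟩)
        have a2 : β x d = 0 := hS.beta_zero_iff.2 fun μ => by
          rw [b_comm]; exact hx _ (mem_plane.2 ⟨0, μ, by simp⟩)
        rw [hdev, a1, a2]
        simp)
      (e := e) (mem_plane.2 (by obtain ⟨k, hk⟩ := he; exact ⟨k, 0, by simp [hk]⟩))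
      (by obtain ⟨k, hk⟩ := he; rw [← hk]; exact hx1U k) hτx
    refine ⟨h, hh, ?_⟩
    rw [hdev, hx1u, zero_smul, zero_sub] at hs
    rwa [neg_smul]
  obtain ⟨ke, hke⟩ := he
  refine ⟨e, by rw [← hke, map_smul, LinearMap.map_smul₂, hp.sing, smul_zero, smul_zero], he0,
    fun k => ?_⟩
  rw [← hke, smul_smul, hke]
  generalize k * ke = k
  refine ⟨?_, fun s h hh => ?_⟩
  · rw [← hke, hS.b_smul, map_smul, hp.sing, smul_zero, mul_zero, map_zero]
  · obtain ⟨h', hh'M, hh'⟩ := hroot (-(s • k) / β x1 d)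
    rw [div_mul_cancel₀ _ hx1d, neg_neg, smul_assoc] at hh'
    rw [siegel_unique hh hh']
    exact hh'M

end CfsgLib.OrthExt
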