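import Cfsg.Agent.Lib.Classical.OrthExtField.Zero
import Cfsg.Agent.Lib.Classical.OrthFix
import Cfsg.Agent.Lib.Classical.OrthOverfieldU

set_option autoImplicit false
set_option linter.unusedSectionVars false

/-!
A field extension of prime degree acting by self-adjoint maps on an orthogonal space, in odd
characteristic: the form over the extension and its Siegel transformations.
-/

namespace CfsgLib.OrthExt

open Module CfsgLib.Orth

variable {F : Type*} [Field F] [Finite F] {ι : Type} [Fintype ι] [DecidableEq ι]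
variable {K : Type*} [Field K] [Algebra F K] [Finite K] [Module K (ι → F)]
  [IsScalarTower F K (ι → F)]
variable {Q : QuadraticForm F (ι → F)} {t : K →ₗ[F] F}
  {β : (ι → F) →ₗ[K] (ι → F) →ₗ[K] K}

local notation "V" => ι → F
local notation "B" => QuadraticMap.polar (DFunLike.coe Q)

/-- A symmetric form over `K` whose trace is the polar form of `Q`. -/
structure Ext (Q : QuadraticForm F (ι → F)) (t : K →ₗ[F] F)
    (β : (ι → F) →ₗ[K] (ι → F) →ₗ[K] K) : Prop where
  nd : Nondeg Q
  two : (2 : F) ≠ 0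
  symm : ∀ x y, β x y = β y x
  spec : ∀ x y, t (β x y) = QuadraticMap.polar ⇑Q x y
  t_ne : t ≠ 0
  deg : (finrank F K).Prime
  dim : 3 ≤ finrank K (ι → F)

/-- A Siegel transformation over `K`. -/
def IsK (β : (ι → F) →ₗ[K] (ι → F) →ₗ[K] K) (u v : ι → F) (g : Grp Q) : Prop :=
  β u u = 0 ∧ β u v = 0 ∧
    ∀ x, ap g x = x + β x u • v - (β x v + β v v / 2 * β x u) • u

/-- The isometries of an element, as a linear map over `F`. -/
def lin (g : Grp Q) : (ι → F) →ₗ[F] (ι → F) where
  toFun := ap g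
  map_add' := ap_add g
  map_smul' c x := ap_smul g c x

theorem lin_apply (g : Grp Q) (x : V) : lin g x = ap g x := rfl

variable (hS : Ext Q t β)
include hS

theorem Ext.twoK : (2 : K) ≠ 0 := fun e => hS.two ((algebraMap F K).injective (by
  rw [map_ofNat, map_zero]; exact e))

theorem Ext.t_ext {z w : K} (h : ∀ μ : K, t (μ * z) = t (μ * w)) : z = w := by
  by_contra hne
  refine hS.t_ne (LinearMap.ext fun k => ?_)
  have := h (k * (z - w)⁻¹)
  rw [← sub_eq_zero, ← map_sub, ← mul_sub, inv_mul_cancel_right₀ (sub_ne_zero.2 hne)] at this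
  exact this

theorem Ext.t_zero {z : K} (h : ∀ μ : K, t (μ * z) = 0) : z = 0 :=
  hS.t_ext fun μ => by rw [h, mul_zero, map_zero]

theorem Ext.b_smul (μ : K) (x y : V) : B (μ • x) y = t (μ * β x y) := by
  rw [← hS.spec, LinearMap.map_smul₂, smul_eq_mul]

theorem Ext.b_smul' (μ : K) (x y : V) : B x (μ • y) = t (μ * β x y) := by
  rw [← hS.spec, map_smul, smul_eq_mul]

theorem Ext.beta_nd {x : V} (h : ∀ y, β x y = 0) : x = 0 :=
  hS.nd x fun y => by rw [← hS.spec, h, map_zero]

theorem Ext.q_eq (x : V) : 2 * Q x = t (β x x) := by rw [hS.spec, b_self]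

theorem Ext.sing {u : V} (hu : β u u = 0) : Q u = 0 :=
  (mul_eq_zero.1 (by rw [hS.q_eq, hu, map_zero])).resolve_left hS.two

theorem Ext.sing_smul {u : V} (hu : β u u = 0) (k : K) : Q (k • u) = 0 :=
  hS.sing (by rw [map_smul, LinearMap.map_smul₂, hu, smul_zero, smul_zero])

/-- Orthogonality to a line over `K`. -/
theorem Ext.beta_zero_iff {x u : V} : β x u = 0 ↔ ∀ μ : K, B x (μ • u) = 0 :=
  ⟨fun h μ => by rw [hS.b_smul', h, mul_zero, map_zero],
    fun h => hS.t_zero fun μ => by rw [← hS.b_smul', h]⟩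

theorem Ext.finiteK : FiniteDimensional K (ι → F) := Module.Finite.right F K (ι → F)

theorem Ext.exists_isK {u v : V} (hu : β u u = 0) (huv : β u v = 0) :
    ∃ g : Grp Q, IsK β u v g := by
  have hvu : β v u = 0 := by rw [hS.symm, huv]
  set f : V →ₗ[K] V := LinearMap.id + (β.flip u).smulRight v
    - (β.flip v + (β v v / 2) • β.flip u).smulRight u with hf
  have hfx : ∀ x, f x = x + β x u • v - (β x v + β v v / 2 * β x u) • u := fun x => by
    simp only [hf, LinearMap.sub_apply, LinearMap.add_apply, LinearMap.id_apply,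
      LinearMap.smulRight_apply, LinearMap.smul_apply, LinearMap.flip_apply, smul_eq_mul]
  obtain ⟨g, hg⟩ := exists_iso hS.nd (f.restrictScalars F) fun x => by
    refine mul_left_cancel₀ hS.two ?_
    rw [LinearMap.restrictScalars_apply, hS.q_eq, hS.q_eq, hfx]
    congr 1
    simp only [map_add, map_sub, map_smul, LinearMap.add_apply, LinearMap.sub_apply,
      LinearMap.smul_apply, smul_eq_mul, hu, huv, hvu, hS.symm v x, hS.symm u x]
    have h2 := hS.twoK
    field_simp
    ring
  exact ⟨g, hu, huv, fun x => by rw [hg, LinearMap.restrictScalars_apply, hfx]⟩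

omit hS in
theorem isK_mul (hS : Ext Q t β) {u v w : V} {g h : Grp Q} (hg : IsK β u v g) (hh : IsK β u w h) :
    IsK β u (v + w) (g * h) := by
  refine ⟨hg.1, by rw [map_add, hg.2.1, hh.2.1, add_zero], fun x => ?_⟩
  rw [ap_mul, hg.2.2, hh.2.2]
  have hwu : β w u = 0 := by rw [hS.symm, hh.2.1]
  simp only [map_sub, map_add, map_smul, LinearMap.sub_apply, LinearMap.add_apply,
    LinearMap.smul_apply, smul_eq_mul, hg.1, hg.2.1, hwu, hS.symm w v]
  have h2 := hS.twoK
  match_scalars <;> field_simp <;> ring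

/-- A group containing the part of `Ω` commuting with `K` contains the Siegel transformations. -/
theorem Ext.isK_mem {M : Subgroup (Grp Q)}
    (hM : ∀ g, g ∈ Cfsg.Omega F ⇑Q → (∀ (k : K) x, ap g (k • x) = k • ap g x) → g ∈ M)
    (hn : 5 ≤ finrank F (ι → F)) {u v : V} {g : Grp Q} (hg : IsK β u v g) : g ∈ M := by
  obtain ⟨h, hh⟩ := hS.exists_isK hg.1 (v := (2 : K)⁻¹ • v) (by rw [map_smul, hg.2.1, smul_zero])
  have hm := isK_mul hS hh hh
  rw [← add_smul, ← two_mul, mul_inv_cancel₀ hS.twoK, one_smul] at hm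
  have e : g = h * h := ext_ap fun x => by rw [hm.2.2, hg.2.2]
  refine hM g (e ▸ sq_mem_omega hS.nd hn h) fun k x => ?_
  rw [hg.2.2, hg.2.2, LinearMap.map_smul₂, LinearMap.map_smul₂, smul_eq_mul, smul_eq_mul, smul_sub,
    smul_add, smul_smul, smul_smul]
  congr 2
  ring

/-- A vector orthogonal over `K` to all vectors orthogonal to two vectors lies in their span. -/
theorem Ext.mem_pair {u d x : V} (h : ∀ y, β u y = 0 → β d y = 0 → β x y = 0) :
    ∃ a b : K, x = a • u + b • d := by
  haveI := hS.finiteK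
  have hm : β x ∈ Submodule.span K (Set.range ![β u, β d]) :=
    mem_span_of_iInf_ker_le_ker fun y hy => by
      simp only [Submodule.mem_iInf, LinearMap.mem_ker] at hy
      exact LinearMap.mem_ker.2 (h y (hy 0) (hy 1))
  rw [Matrix.range_cons, Matrix.range_cons, Matrix.range_empty, Set.union_empty,
    Set.singleton_union] at hm
  obtain ⟨a, b, e⟩ := Submodule.mem_span_pair.1 hm
  refine ⟨a, b, sub_eq_zero.1 (hS.beta_nd fun y => ?_)⟩
  rw [map_sub, map_add, map_smul, map_smul, e, sub_self, LinearMap.zero_apply]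

/-- A vector orthogonal to all vectors orthogonal to one vector lies on its line. -/
theorem Ext.mem_line {u x : V} (h : ∀ y, β u y = 0 → β x y = 0) : ∃ a : K, x = a • u := by
  obtain ⟨a, b, e⟩ := hS.mem_pair (u := u) (d := u) fun y hy _ => h y hy
  exact ⟨a + b, by rw [e, add_smul]⟩

/-- The orthogonal over `K` of two vectors. -/
theorem Ext.finrank_perp_pair (u d : V) :
    finrank K (ι → F) ≤ finrank K ((LinearMap.ker (β u) ⊓ LinearMap.ker (β d) : Submodule K (ι → F))) + 2 := by
  haveI := hS.finiteK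
  have h1 := LinearMap.finrank_range_add_finrank_ker ((β u).prod (β d))
  rw [LinearMap.ker_prod] at h1
  have h2 := Submodule.finrank_le (LinearMap.range ((β u).prod (β d)))
  rw [Module.finrank_prod, Module.finrank_self] at h2
  omega

/-- A partner of a singular vector. -/
theorem Ext.exists_mate {u : V} (hu : β u u = 0) (hu0 : u ≠ 0) :
    ∃ w, β w w = 0 ∧ β u w = 1 := by
  obtain ⟨y, hy⟩ : ∃ y, β u y ≠ 0 := by
    by_contra hc
    push Not at hc
    exact hu0 (hS.beta_nd hc)
  obtain ⟨y1, hy1⟩ : ∃ y1, β u y1 = 1 :=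
    ⟨(β u y)⁻¹ • y, by rw [map_smul, smul_eq_mul, inv_mul_cancel₀ hy]⟩
  refine ⟨y1 - (β y1 y1 / 2) • u, ?_, ?_⟩
  · simp only [map_sub, map_smul, LinearMap.sub_apply, LinearMap.smul_apply, smul_eq_mul, hu, hy1,
      hS.symm y1 u]
    have := hS.twoK
    field_simp
    ring
  · rw [map_sub, map_smul, hu, hy1, smul_zero, sub_zero]

/-- The orthogonal of a pair with non-zero product represents everything, in dimension four. -/
theorem Ext.exists_value (h4 : 4 ≤ finrank K (ι → F)) {a b : V} (ha : β a a = 0) (hb : β b b = 0)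
    (hab : β a b ≠ 0) (γ : K) : ∃ y, β a y = 0 ∧ β b y = 0 ∧ β y y = γ := by
  haveI := hS.finiteK
  set W : Submodule K V := LinearMap.ker (β a) ⊓ LinearMap.ker (β b) with hW
  have hd : finrank K (ι → F) ≤ finrank K W + 2 := hS.finrank_perp_pair a b
  set q : (W × K) →ₗ[K] (W × K) →ₗ[K] K :=
    β.compl₁₂ (W.subtype.comp (LinearMap.fst K W K)) (W.subtype.comp (LinearMap.fst K W K))
      - γ • (LinearMap.mul K K).compl₁₂ (LinearMap.snd K W K) (LinearMap.snd K W K) with hq
  obtain ⟨⟨⟨y, hy⟩, c⟩, hne, h0⟩ := exists_isotropic q (by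
    rw [Module.finrank_prod, Module.finrank_self]; omega)
  have h0' : β y y - γ * (c * c) = 0 := by simpa [hq] using h0
  by_cases hc : c = 0
  · subst hc
    rw [mul_zero, mul_zero, sub_zero] at h0'
    have hy0 : y ≠ 0 := fun e => hne (by subst e; rfl)
    obtain ⟨x, hx⟩ : ∃ x, β y x ≠ 0 := by
      by_contra hc
      push Not at hc
      exact hy0 (hS.beta_nd hc)
    have hya : β y a = 0 := by rw [hS.symm]; exact hy.1
    have hyb : β y b = 0 := by rw [hS.symm]; exact hy.2
    set x' := x - (β b x / β a b) • a - (β a x / β a b) • b with hx'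
    have hax : β a x' = 0 := by
      rw [hx', map_sub, map_sub, map_smul, map_smul, ha, smul_eq_mul, smul_eq_mul, div_mul_cancel₀ _ hab]
      ring
    have hbx : β b x' = 0 := by
      rw [hx', map_sub, map_sub, map_smul, map_smul, hb, hS.symm b a, smul_eq_mul, smul_eq_mul,
        div_mul_cancel₀ _ hab]
      ring
    have hyx : β y x' = β y x := by rw [hx', map_sub, map_sub, map_smul, map_smul, hya, hyb]; simp
    refine ⟨x' + ((γ - β x' x') / (2 * β y x')) • y, ?_, ?_, ?_⟩
    · rw [map_add, map_smul, hax, show β a y = 0 from hy.1, smul_zero, add_zero]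
    · rw [map_add, map_smul, hbx, show β b y = 0 from hy.2, smul_zero, add_zero]
    · have hne' : β y x' ≠ 0 := hyx ▸ hx
      simp only [map_add, map_smul, LinearMap.add_apply, LinearMap.smul_apply, smul_eq_mul, h0',
        hS.symm x' y]
      have := hS.twoK
      field_simp
      ring
  · refine ⟨c⁻¹ • y, by rw [map_smul, show β a y = 0 from hy.1, smul_zero],
      by rw [map_smul, show β b y = 0 from hy.2, smul_zero], ?_⟩
    rw [map_smul, LinearMap.map_smul₂, smul_eq_mul, smul_eq_mul, sub_eq_zero.1 h0']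
    field_simp

omit hS in
/-- The hypotheses on the overgroup. -/
structure Over (β : (ι → F) →ₗ[K] (ι → F) →ₗ[K] K) (M : Subgroup (Grp Q)) : Prop where
  mem : ∀ {u v : ι → F} {g : Grp Q}, IsK β u v g → g ∈ M

theorem Ext.isK_lin {u v : V} {g : Grp Q} (hg : IsK β u v g) (k : K) (x : V) :
    ap g (k • x) = k • ap g x := by
  rw [hg.2.2, hg.2.2, LinearMap.map_smul₂, LinearMap.map_smul₂, smul_eq_mul, smul_eq_mul, smul_sub,
    smul_add, smul_smul, smul_smul]
  congr 2
  ring

variable {M : Subgroup (Grp Q)} (hM : Over β M)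
include hM

theorem Ext.exists_step (h4 : 4 ≤ finrank K (ι → F)) {a b : V} (ha : β a a = 0) (hb : β b b = 0)
    (hab : β a b ≠ 0) : ∃ g ∈ M, (∀ (k : K) x, ap g (k • x) = k • ap g x) ∧ ap g a = b := by
  obtain ⟨y, hay, hby, hyy⟩ := hS.exists_value h4 ha hb hab (-2 / β a b)
  set z := (β a b)⁻¹ • (a + b) + y with hz
  have hya : β y a = 0 := by rw [hS.symm]; exact hay
  have hyb : β y b = 0 := by rw [hS.symm]; exact hby
  have haz : β a z = 1 := by
    rw [hz, map_add, map_smul, map_add, ha, hay, zero_add, add_zero, smul_eq_mul,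
      inv_mul_cancel₀ hab]
  have hbz : β b z = 1 := by
    rw [hz, map_add, map_smul, map_add, hb, hby, hS.symm b a, add_zero, add_zero, smul_eq_mul,
      inv_mul_cancel₀ hab]
  have hzz : β z z = 0 := by
    simp only [hz, map_add, map_smul, LinearMap.add_apply, LinearMap.smul_apply, smul_eq_mul, ha,
      hb, hay, hby, hya, hyb, hyy, hS.symm b a]
    field_simp
    ring
  have hzv : β z (b - a) = 0 := by rw [map_sub, hS.symm, hbz, hS.symm z, haz, sub_self]
  obtain ⟨g, hg⟩ := hS.exists_isK hzz hzv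
  refine ⟨g, hM.mem hg, hS.isK_lin hg, ?_⟩
  rw [hg.2.2, haz, one_smul]
  have e : β a (b - a) + β (b - a) (b - a) / 2 * 1 = 0 := by
    simp only [map_sub, LinearMap.sub_apply, ha, hb, hS.symm b a]
    have := hS.twoK
    field_simp
    ring
  rw [e, zero_smul, sub_zero, add_sub_cancel]

/-- The Siegel transformations are transitive on non-zero singular vectors. -/
theorem Ext.exists_trans (h4 : 4 ≤ finrank K (ι → F)) {a b : V} (ha : β a a = 0) (hb : β b b = 0)
    (ha0 : a ≠ 0) (hb0 : b ≠ 0) :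
    ∃ g ∈ M, (∀ (k : K) x, ap g (k • x) = k • ap g x) ∧ ap g a = b := by
  by_cases hab : β a b = 0
  · obtain ⟨c, hc, hac, hbc⟩ : ∃ c, β c c = 0 ∧ β a c ≠ 0 ∧ β c b ≠ 0 := by
      obtain ⟨a', ha', haa⟩ := hS.exists_mate ha ha0
      obtain ⟨b', hb', hbb⟩ := hS.exists_mate hb hb0
      by_cases h1 : β b a' = 0
      · by_cases h2 : β a b' = 0
        · refine ⟨a' + b' - β a' b' • a, ?_, ?_, ?_⟩
          · simp only [map_sub, map_add, map_smul, LinearMap.sub_apply, LinearMap.add_apply,
              LinearMap.smul_apply, smul_eq_mul, ha, ha', hb', haa, h2, hS.symm a' a, hS.symm b' a,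
              hS.symm b' a']
            ring
          · rw [map_sub, map_add, map_smul, ha, haa, h2]; simp
          · rw [hS.symm, map_sub, map_add, map_smul, h1, hbb, hS.symm b a, hab]; simp
        · exact ⟨b', hb', h2, by rw [hS.symm, hbb]; exact one_ne_zero⟩
      · exact ⟨a', ha', by rw [haa]; exact one_ne_zero, by rw [hS.symm]; exact h1⟩
    obtain ⟨g, hg, hl, e⟩ := hS.exists_step hM h4 ha hc hac
    obtain ⟨g', hg', hl', e'⟩ := hS.exists_step hM h4 hc hb hbc
    refine ⟨g' * g, M.mul_mem hg' hg, fun k x => ?_, by rw [ap_mul, e, e']⟩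
    rw [ap_mul, ap_mul, hl, hl']
  · exact hS.exists_step hM h4 ha hb hab

end CfsgLib.OrthExt
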