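import Cfsg.Agent.Lib.Classical.OrthExtField.Root
import Cfsg.Agent.Lib.Classical.OrthStab

set_option autoImplicit false
set_option linter.unusedSectionVars false

/-!
An overgroup moving a singular line over `K` contains all Siegel transformations.
-/

namespace CfsgLib.OrthExt

open Module CfsgLib.Orth CfsgLib.Orth.Overfield

variable {F : Type*} [Field F] [Finite F] {ι : Type} [Fintype ι] [DecidableEq ι]
variable {K : Type*} [Field K] [Algebra F K] [Finite K] [Module K (ι → F)]
  [IsScalarTower F K (ι → F)] [FiniteDimensional F K]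
variable {Q : QuadraticForm F (ι → F)} {t : K →ₗ[F] F}
  {β : (ι → F) →ₗ[K] (ι → F) →ₗ[K] K}

local notation "V" => ι → F
local notation "B" => QuadraticMap.polar (DFunLike.coe Q)

/-- The vectors with trivial product against all good vectors of `p`. -/
def Rad (Q : QuadraticForm F (ι → F)) (M : Subgroup (Grp Q)) (p z : ι → F) : Prop :=
  ∀ x, GoodAt Q M p x → QuadraticMap.polar ⇑Q x z = 0

variable {M : Subgroup (Grp Q)}

theorem rad_stable {p z : V} (hz : Rad Q M p z) {g : Grp Q} (hg : g ∈ M) (hp : ap g p = p) :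
    Rad Q M p (ap g z) := by
  intro x hx
  rw [b_comm, ap_b_left, b_comm]
  refine hz _ ?_
  have h := goodAt_conj (M.inv_mem hg) hx
  have e : ap g⁻¹ p = p := by conv_lhs => rw [← hp, ap_inv_ap]
  rwa [e] at h

theorem rad_smul {p z : V} (hz : Rad Q M p z) (c : F) : Rad Q M p (c • z) := fun x hx => by
  rw [b_smul_right, hz x hx, mul_zero]

theorem rad_sub {p z z' : V} (hz : Rad Q M p z) (hz' : Rad Q M p z') : Rad Q M p (z - z') :=
  fun x hx => by rw [b_sub_right, hz x hx, hz' x hx, sub_zero]

variable (hS : Ext Q t β)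
include hS

omit [FiniteDimensional F K] in
/-- Good vectors fill the orthogonal of the radical. -/
theorem good_of_rad {p x : V} (hp : Q p = 0) (h : ∀ z, Rad Q M p z → B z x = 0) : GoodAt Q M p x := by
  let G : Submodule F V :=
    { carrier := {y | GoodAt Q M p y}
      add_mem' := fun {a b} ha hb => goodAt_add hS.nd hp ha hb
      zero_mem' := goodAt_zero hp
      smul_mem' := fun c a ha => goodAt_smul ha c }
  have hx : x ∈ orth Q (orth Q G) := fun z hz => h z fun y hy => hz y hy
  rwa [orth_orth hS.nd] at hx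

omit [FiniteDimensional F K] in
/-- Root elements in lines over `K` displace the radical. -/
theorem rad_move {p z : V} (hz : Rad Q M p z)
    (hline : ∀ y : V, β y y = 0 → y ≠ 0 → ∀ k : K, GoodAt Q M y (k • y))
    {y : V} (hy : β y y = 0) (hy0 : y ≠ 0) {lam μ : K} (hlam : lam ≠ 0)
    (h1 : t (lam * β p y) = 0) (h2 : t (μ * β p y) = 0) :
    Rad Q M p (t (lam * β z y) • μ • y - t (μ * β z y) • lam • y) := by
  have ha : β (lam • y) (lam • y) = 0 := by
    rw [map_smul, LinearMap.map_smul₂, hy, smul_zero, smul_zero]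
  have hg := hline (lam • y) ha (smul_ne_zero hlam hy0) (μ / lam)
  rw [smul_smul, div_mul_cancel₀ _ hlam] at hg
  obtain ⟨g, hg'⟩ := exists_siegel hS.nd (hS.sing ha) hg.1
  have hgM : g ∈ M := hg.2 1 g (by rwa [one_smul])
  have hgp : ap g p = p :=
    siegel_fix hg' (by rw [hS.b_smul', h1]) (by rw [hS.b_smul', h2])
  have h := rad_sub (rad_stable hz hgM hgp) hz
  rw [hg'.2.2, hS.sing_smul hy, zero_mul, zero_smul, sub_zero, hS.b_smul', hS.b_smul',
    add_sub_assoc, add_sub_cancel_left] at h
  exact h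

omit [FiniteDimensional F K] in
/-- A scalar with all multiples in the base field vanishes. -/
theorem eq_zero_of_scalar {c : K} (h : ∀ k : K, ∃ f : F, k * c = algebraMap F K f) : c = 0 := by
  by_contra hc
  have h1 : finrank F K ≤ 1 := by
    refine finrank_le_one (1 : K) fun k => ?_
    obtain ⟨f, hf⟩ := h (k / c)
    rw [div_mul_cancel₀ _ hc] at hf
    exact ⟨f, by rw [hf, Algebra.algebraMap_eq_smul_one]⟩
  have := hS.deg.two_le
  omega

omit [FiniteDimensional F K] in
/-- The form over `K` vanishes on the base field only at zero. -/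
theorem eq_zero_of_sq {c : K} (h : ∀ k : K, ∃ f : F, k * k * c = algebraMap F K f) : c = 0 := by
  refine eq_zero_of_scalar hS fun k => ?_
  obtain ⟨f1, h1⟩ := h 1
  obtain ⟨f2, h2⟩ := h k
  obtain ⟨f3, h3⟩ := h (1 + k)
  refine ⟨(f3 - f1 - f2) / 2, ?_⟩
  rw [map_div₀, map_sub, map_sub, ← h1, ← h2, ← h3, map_ofNat]
  have := hS.twoK
  field_simp
  ring

/-- For degree at least three the radical is the point. -/
theorem rad_eq_point (h3 : 3 ≤ finrank F K) {p : V} (hp : β p p = 0) (hp0 : p ≠ 0)
    (hline : ∀ y : V, β y y = 0 → y ≠ 0 → ∀ k : K, GoodAt Q M y (k • y))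
    {z : V} (hz : Rad Q M p z) : ∃ f : F, z = f • p := by
  classical
  have hzp : β z p = 0 := hS.beta_zero_iff.2 fun k => by
    rw [b_comm]; exact hz _ (hline p hp hp0 k)
  have key : ∀ y, β y y = 0 → β p y = 1 → ∃ f : F, β z y = algebraMap F K f := by
    intro y hy hpy
    have hy0 : y ≠ 0 := fun e => one_ne_zero (α := K) (by rw [← hpy, e, map_zero])
    set c := β z y
    by_contra hc
    push Not at hc
    obtain ⟨lam, hl1, hl2⟩ : ∃ lam, t lam = 0 ∧ t (lam * c) ≠ 0 := by
      by_contra hcon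
      push Not at hcon
      have hm : t ∘ₗ LinearMap.mulRight F c ∈ Submodule.span F (Set.range fun _ : Fin 1 => t) :=
        mem_span_of_iInf_ker_le_ker fun x hx => by
          simp only [Submodule.mem_iInf, LinearMap.mem_ker] at hx
          exact LinearMap.mem_ker.2 (hcon x (hx 0))
      rw [Set.range_const, Submodule.mem_span_singleton] at hm
      obtain ⟨f, hf⟩ := hm
      refine hc f (hS.t_ext fun μ => ?_)
      rw [← LinearMap.mulRight_apply (R := F), ← LinearMap.comp_apply, ← hf, LinearMap.smul_apply,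
        ← map_smul, Algebra.smul_def, mul_comm]
    obtain ⟨μ, hμ0, hμ1, hμ2⟩ : ∃ μ : K, μ ≠ 0 ∧ t μ = 0 ∧ t (μ * c) = 0 := by
      set f : K →ₗ[F] F × F := t.prod (t ∘ₗ LinearMap.mulRight F c)
      have hne : LinearMap.ker f ≠ ⊥ := by
        intro e
        have h1 := LinearMap.finrank_le_finrank_of_injective (LinearMap.ker_eq_bot.1 e)
        rw [Module.finrank_prod, Module.finrank_self] at h1
        omega
      obtain ⟨κ, hκ, hκ0⟩ := Submodule.exists_mem_ne_zero_of_ne_bot hne
      rw [LinearMap.mem_ker] at hκ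
      exact ⟨κ, hκ0, congrArg Prod.fst hκ, congrArg Prod.snd hκ⟩
    have hl0 : lam ≠ 0 := fun e => hl2 (by rw [e, zero_mul, map_zero])
    have h := rad_move hS hz hline hy hy0 (lam := lam) (μ := μ) hl0
      (by rw [hpy, mul_one, hl1]) (by rw [hpy, mul_one, hμ1])
    rw [hμ2, zero_smul, sub_zero] at h
    have h' := rad_smul h (t (lam * c))⁻¹
    rw [smul_smul, inv_mul_cancel₀ hl2, one_smul] at h'
    have hb : β (μ • y) p = 0 := hS.beta_zero_iff.2 fun k => by
      rw [b_comm]; exact h' _ (hline p hp hp0 k)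
    rw [LinearMap.map_smul₂, hS.symm, hpy, smul_eq_mul, mul_one] at hb
    exact hμ0 hb
  obtain ⟨w, hw, hpw⟩ := hS.exists_mate hp hp0
  have hperp : ∀ v, β p v = 0 → β w v = 0 → β z v = 0 := by
    intro v hv hwv
    refine eq_zero_of_scalar hS fun k => ?_
    obtain ⟨f0, hf0⟩ := key w hw hpw
    have hy : β (w + k • v - (β (k • v) (k • v) / 2) • p) (w + k • v - (β (k • v) (k • v) / 2) • p) = 0 := by
      simp only [map_add, map_sub, map_smul, LinearMap.add_apply, LinearMap.sub_apply,
        LinearMap.smul_apply, smul_eq_mul, hw, hp, hwv, hv, hpw, hS.symm v w, hS.symm v p, hS.symm w p]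
      have := hS.twoK
      field_simp
      ring
    obtain ⟨f1, hf1⟩ := key _ hy (by
      rw [map_sub, map_add, map_smul, map_smul, hv, hp, hpw]; simp)
    refine ⟨f1 - f0, ?_⟩
    rw [map_sub, ← hf1, ← hf0, map_sub, map_add, map_smul (β z) (β (k • v) (k • v) / 2), hzp,
      smul_zero, sub_zero, map_smul, smul_eq_mul, add_sub_cancel_left]
  obtain ⟨a, b, e⟩ := hS.mem_pair hperp
  have hb : b = 0 := by
    rw [e, map_add, LinearMap.add_apply, LinearMap.map_smul₂, LinearMap.map_smul₂, hp, hS.symm w p,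
      hpw] at hzp
    simpa using hzp
  obtain ⟨f, hf⟩ := key w hw hpw
  rw [e, hb, zero_smul, add_zero, LinearMap.map_smul₂, hpw, smul_eq_mul, mul_one] at hf
  exact ⟨f, by rw [e, hb, zero_smul, add_zero, hf, algebraMap_smul]⟩

/-- For degree two the radical of a point lies in its line. -/
theorem rad_le_line (h2 : finrank F K = 2) (h6 : 5 ≤ finrank K (ι → F)) {p d : V} (hp : β p p = 0)
    (hp0 : p ≠ 0) (hline : ∀ y : V, β y y = 0 → y ≠ 0 → ∀ k : K, GoodAt Q M y (k • y))
    (hd : GoodAt Q M p d) (hpd : β p d = 0) (hdp : ∀ k : K, d ≠ k • p)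
    {z : V} (hz : Rad Q M p z) : ∃ k : K, z = k • p := by
  classical
  haveI := hS.finiteK
  obtain ⟨j, hj⟩ : ∃ j : K, ∀ f : F, j ≠ algebraMap F K f := by
    by_contra hc
    push Not at hc
    have h1 : (1 : K) = 0 := eq_zero_of_scalar hS fun k => by
      obtain ⟨f, hf⟩ := hc k; exact ⟨f, by rw [mul_one, hf]⟩
    exact one_ne_zero h1
  have hperp : ∀ {x : V}, Rad Q M p x → β x p = 0 := fun {x} hx => hS.beta_zero_iff.2 fun k => by
    rw [b_comm]; exact hx _ (hline p hp hp0 k)
  have jmove : ∀ {x y : V}, Rad Q M p x → β y y = 0 → β p y = 0 → β x y ≠ 0 →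
      ∃ ξ : K, ξ ≠ 0 ∧ Rad Q M p (ξ • y) ∧ t (ξ * β x y) = 0 := by
    intro x y hx hy hpy hc
    have hy0 : y ≠ 0 := fun e => hc (by rw [e, map_zero])
    have h := rad_move hS hx hline hy hy0 (lam := 1) (μ := j) one_ne_zero
      (by rw [hpy, mul_zero, map_zero]) (by rw [hpy, mul_zero, map_zero])
    rw [one_mul, ← smul_assoc, ← smul_assoc, ← sub_smul] at h
    refine ⟨_, fun e => hc (hS.t_zero fun k => ?_), h, ?_⟩
    · have ht : t (β x y) = 0 := by
        by_contra hne
        refine hj (t (j * β x y) / t (β x y)) ?_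
        rw [sub_eq_zero, Algebra.smul_def, Algebra.smul_def, mul_one] at e
        rw [map_div₀, ← e, mul_div_cancel_left₀ _ (fun he => hne ((algebraMap F K).injective (by rw [he, map_zero])))]
      have hjt : t (j * β x y) = 0 := by
        rw [ht, zero_smul, zero_sub, neg_eq_zero, smul_eq_zero] at e
        exact e.resolve_right one_ne_zero
      have hli : LinearIndependent F ![(1 : K), j] := by
        refine (LinearIndependent.pair_iff' one_ne_zero).2 fun a ha => hj a ?_
        rw [← ha, Algebra.algebraMap_eq_smul_one]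
      have htop := hli.span_eq_top_of_card_eq_finrank (by rw [Fintype.card_fin, h2])
      rw [Matrix.range_cons, Matrix.range_cons, Matrix.range_empty, Set.union_empty,
        Set.singleton_union] at htop
      obtain ⟨a, b, hab⟩ := Submodule.mem_span_pair.1 (show k ∈ Submodule.span F {(1 : K), j} by
        rw [htop]; trivial)
      rw [← hab, add_mul, smul_mul_assoc, smul_mul_assoc, one_mul, map_add, map_smul, map_smul, ht,
        hjt, smul_zero, smul_zero, add_zero]
    · rw [sub_mul, map_sub, smul_mul_assoc, smul_mul_assoc, one_mul, map_smul, map_smul, smul_eq_mul,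
        smul_eq_mul]
      ring
  have hdR : ∀ {x : V}, Rad Q M p x → B d x = 0 := fun {x} hx => hx d hd
  -- a singular radical vector off the line gives the good vector
  have hsing : ∀ x, Rad Q M p x → β x x = 0 → (∀ k : K, x ≠ k • p) →
      ∃ (a : K) (f : F), f ≠ 0 ∧ d = a • p + f • x := by
    intro x hx hxx hxp
    have hxp0 : β x p = 0 := hperp hx
    have hpx : β p x = 0 := by rw [hS.symm, hxp0]
    obtain ⟨y1, hy1, hxy1⟩ : ∃ y, β p y = 0 ∧ β x y = 1 := by
      by_contra hc
      push Not at hc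
      obtain ⟨a, ha⟩ := hS.mem_line (u := p) (x := x) fun y hy => by
        by_contra hne
        exact hc ((β x y)⁻¹ • y) (by rw [map_smul, hy, smul_zero])
          (by rw [map_smul, smul_eq_mul, inv_mul_cancel₀ hne])
      exact hxp a ha
    obtain ⟨y0, hy0, hpy0, hxy0⟩ : ∃ y, β y y = 0 ∧ β p y = 0 ∧ β x y = 1 := by
      refine ⟨y1 - (β y1 y1 / 2) • x, ?_, ?_, ?_⟩
      · simp only [map_sub, map_smul, LinearMap.sub_apply, LinearMap.smul_apply, smul_eq_mul, hxx,
          hxy1, hS.symm y1 x]
        have := hS.twoK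
        field_simp
        ring
      · rw [map_sub, map_smul, hy1, hpx, smul_zero, sub_zero]
      · rw [map_sub, map_smul, hxy1, hxx, smul_zero, sub_zero]
    have key : ∀ y, β y y = 0 → β p y = 0 → β x y = 1 → ∃ f : F, β d y = algebraMap F K f := by
      intro y hy hpy hxy
      obtain ⟨ξ, hξ0, hξ, hξt⟩ := jmove hx hy hpy (by rw [hxy]; exact one_ne_zero)
      rw [hxy, mul_one] at hξt
      have h := hdR hξ
      rw [hS.b_smul'] at h
      by_contra hc
      push Not at hc
      have hξ2 : ξ = 0 := by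
        refine hS.t_zero fun k => ?_
        have hli : LinearIndependent F ![(1 : K), β d y] := by
          refine (LinearIndependent.pair_iff' one_ne_zero).2 fun a ha => hc a ?_
          rw [← ha, Algebra.algebraMap_eq_smul_one]
        have htop := hli.span_eq_top_of_card_eq_finrank (by rw [Fintype.card_fin, h2])
        rw [Matrix.range_cons, Matrix.range_cons, Matrix.range_empty, Set.union_empty,
          Set.singleton_union] at htop
        obtain ⟨a, b, hab⟩ := Submodule.mem_span_pair.1
          (show k ∈ Submodule.span F {(1 : K), β d y} by rw [htop]; trivial)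
        rw [← hab, add_mul, smul_mul_assoc, smul_mul_assoc, one_mul, map_add, map_smul, map_smul,
          hξt, mul_comm (β d y), h, smul_zero, smul_zero, add_zero]
      exact hξ0 hξ2
    set W : Submodule K V := LinearMap.ker (β p) ⊓ LinearMap.ker (β x) ⊓ LinearMap.ker (β y0) with hW
    have hquad : ∀ v ∈ W, β d v = 0 ∧ β d x * β v v = 0 := by
      intro v hv
      obtain ⟨⟨hv1, hv2⟩, hv3⟩ := hv
      replace hv3 : β y0 v = 0 := hv3
      replace hv1 : β p v = 0 := hv1
      replace hv2 : β x v = 0 := hv2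
      obtain ⟨f0, hf0⟩ := key y0 hy0 hpy0 hxy0
      have hplus : ∀ k : K, ∃ f : F,
          k * β d v - k * k * β v v / 2 * β d x = algebraMap F K f := by
        intro k
        obtain ⟨f1, hf1⟩ := key (y0 + k • v - (k * k * β v v / 2) • x) (by
          simp only [map_add, map_sub, map_smul, LinearMap.add_apply, LinearMap.sub_apply,
            LinearMap.smul_apply, smul_eq_mul, hy0, hxx, hv2, hv3, hxy0, hS.symm v x, hS.symm v y0,
            hS.symm y0 x]
          have := hS.twoK
          field_simp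
          ring)
          (by rw [map_sub, map_add, map_smul, map_smul, hpy0, hv1, hpx]; simp)
          (by rw [map_sub, map_add, map_smul, map_smul, hxy0, hv2, hxx]; simp)
        refine ⟨f1 - f0, ?_⟩
        rw [map_sub, ← hf1, ← hf0, map_sub, map_add, map_smul, map_smul, smul_eq_mul, smul_eq_mul]
        ring
      have hlin : β d v = 0 := eq_zero_of_scalar hS fun k => by
        obtain ⟨f1, h1⟩ := hplus k
        obtain ⟨f2, h2⟩ := hplus (-k)
        refine ⟨(f1 - f2) / 2, ?_⟩
        rw [map_div₀, map_sub, ← h1, ← h2, map_ofNat]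
        have := hS.twoK
        field_simp
        ring
      refine ⟨hlin, ?_⟩
      have h' : β d x * β v v / 2 = 0 := eq_zero_of_sq hS fun k => by
        obtain ⟨f, hf⟩ := hplus k
        refine ⟨-f, ?_⟩
        rw [map_neg, ← hf, hlin]
        ring
      exact (div_eq_zero_iff.1 h').resolve_right hS.twoK
    have hspan : ∀ a : V, (∀ v ∈ W, β a v = 0) → ∃ c1 c2 c3 : K, a = c1 • p + c2 • x + c3 • y0 := by
      intro a ha
      have hm : β a ∈ Submodule.span K (Set.range ![β p, β x, β y0]) :=
        mem_span_of_iInf_ker_le_ker fun v hv => by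
          simp only [Submodule.mem_iInf, LinearMap.mem_ker] at hv
          exact LinearMap.mem_ker.2 (ha v ⟨⟨hv 0, hv 1⟩, hv 2⟩)
      obtain ⟨c, hc⟩ := (Submodule.mem_span_range_iff_exists_fun K).1 hm
      refine ⟨c 0, c 1, c 2, sub_eq_zero.1 (hS.beta_nd fun v => ?_)⟩
      rw [map_sub, ← hc, Fin.sum_univ_three]
      simp
    have hdx : β d x = 0 := by
      by_contra hne
      have hiso : ∀ v ∈ W, β v v = 0 := fun v hv => (mul_eq_zero.1 (hquad v hv).2).resolve_left hne
      have hle : W ≤ Submodule.span K ({p} : Set V) := fun a ha => by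
        obtain ⟨⟨-, hxa⟩, hya⟩ := id ha
        replace hxa : β x a = 0 := hxa
        replace hya : β y0 a = 0 := hya
        obtain ⟨c1, c2, c3, rfl⟩ := hspan a fun v hv => by
          have h := hiso _ (W.add_mem ha hv)
          simp only [map_add, LinearMap.add_apply, hiso a ha, hiso v hv, hS.symm v a] at h
          have h' : (2 : K) * β a v = 0 := by linear_combination h
          exact (mul_eq_zero.1 h').resolve_left hS.twoK
        have hxp' : β x p = 0 := hxp0
        have hc3 : c3 = 0 := by simpa [hxp', hxx, hxy0] using hxa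
        have hc2 : c2 = 0 := by
          rw [hc3] at hya
          simpa [hS.symm y0 p, hpy0, hS.symm y0 x, hxy0] using hya
        rw [hc3, hc2, zero_smul, zero_smul, add_zero, add_zero]
        exact Submodule.smul_mem _ _ (Submodule.mem_span_singleton_self p)
      have a1 := Submodule.finrank_mono hle
      have a2 : finrank K (Submodule.span K ({p} : Set V)) ≤ 1 := (finrank_span_singleton hp0).le
      have a3 := LinearMap.finrank_range_add_finrank_ker (((β p).prod (β x)).prod (β y0))
      rw [LinearMap.ker_prod, LinearMap.ker_prod] at a3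
      have a4 := Submodule.finrank_le (LinearMap.range (((β p).prod (β x)).prod (β y0)))
      rw [Module.finrank_prod, Module.finrank_prod, Module.finrank_self] at a4
      have a3' : finrank K (LinearMap.range (((β p).prod (β x)).prod (β y0))) + finrank K W =
          finrank K (ι → F) := a3
      omega
    obtain ⟨c1, c2, c3, e⟩ := hspan d fun v hv => (hquad v hv).1
    have hc3 : c3 = 0 := by
      rw [e] at hdx
      simpa [hpx, hxx, hS.symm y0 x, hxy0] using hdx
    rw [hc3, zero_smul, add_zero] at e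
    obtain ⟨f, hf⟩ := key y0 hy0 hpy0 hxy0
    have hc2 : c2 = algebraMap F K f := by
      rw [← hf, e]
      simp [hpy0, hxy0]
    rw [hc2, algebraMap_smul] at e
    exact ⟨c1, f, fun hf0 => hdp c1 (by rw [e, hf0, zero_smul, add_zero]), e⟩
  have hnosing : ∀ x, Rad Q M p x → β x x = 0 → ∃ k : K, x = k • p := by
    intro x hx hxx
    by_contra hc
    push Not at hc
    obtain ⟨a, f, hf, e⟩ := hsing x hx hxx hc
    have hpx : β p x = 0 := by rw [hS.symm, hperp hx]
    obtain ⟨y1, hy1, hxy1⟩ : ∃ y, β p y = 0 ∧ β x y ≠ 0 := by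
      by_contra hcon
      push Not at hcon
      obtain ⟨b, hb⟩ := hS.mem_line hcon
      exact hc b hb
    obtain ⟨y, hy, hpy, hxy⟩ : ∃ y, β y y = 0 ∧ β p y = 0 ∧ β x y ≠ 0 := by
      refine ⟨y1 - (β y1 y1 / (2 * β x y1)) • x, ?_, ?_, ?_⟩
      · simp only [map_sub, map_smul, LinearMap.sub_apply, LinearMap.smul_apply, smul_eq_mul, hxx,
          hS.symm y1 x]
        have := hS.twoK
        field_simp
        ring
      · rw [map_sub, map_smul, hy1, hpx, smul_zero, sub_zero]
      · rwa [map_sub, map_smul, hxx, smul_zero, sub_zero]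
    obtain ⟨ξ, hξ0, hξ, -⟩ := jmove hx hy hpy hxy
    obtain ⟨a', f', hf', e'⟩ := hsing _ hξ (by
        rw [map_smul, LinearMap.map_smul₂, hy, smul_zero, smul_zero]) fun k hk => hxy (by
      have h := congrArg (β x) hk
      rw [map_smul, map_smul, hperp hx, smul_zero] at h
      exact (smul_eq_zero.1 h).resolve_left hξ0)
    have h1 : β d x = 0 := by
      rw [e, map_add, LinearMap.add_apply, LinearMap.map_smul₂, LinearMap.map_smul_of_tower,
        LinearMap.smul_apply, hxx, hpx, smul_zero, smul_zero, add_zero]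
    rw [e', map_add, LinearMap.add_apply, LinearMap.map_smul₂, LinearMap.map_smul_of_tower,
      LinearMap.smul_apply, LinearMap.map_smul₂, hpx, smul_zero, zero_add, hS.symm y x,
      Algebra.smul_def, smul_eq_mul, mul_eq_zero, mul_eq_zero] at h1
    rcases h1 with h1 | h1 | h1
    · exact hf' ((algebraMap F K).injective (by rw [h1, map_zero]))
    · exact hξ0 h1
    · exact hxy h1
  by_contra hc
  push Not at hc
  -- a singular vector not orthogonal to the given one
  obtain ⟨w, hw, hpw⟩ := hS.exists_mate hp hp0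
  have hzp := hperp hz
  obtain ⟨v, hv1, hv2, hzv⟩ : ∃ v, β p v = 0 ∧ β w v = 0 ∧ β z v ≠ 0 := by
    by_contra hcon
    push Not at hcon
    obtain ⟨a, b, e⟩ := hS.mem_pair hcon
    rw [e, map_add, LinearMap.add_apply, LinearMap.map_smul₂, LinearMap.map_smul₂, hp, hS.symm w p,
      hpw] at hzp
    have hb : b = 0 := by simpa using hzp
    exact hc a (by rw [e, hb, zero_smul, add_zero])
  obtain ⟨y, hy, hpy, hzy⟩ : ∃ y, β y y = 0 ∧ β p y = 0 ∧ β z y ≠ 0 := by
    set W : Submodule K V := LinearMap.ker (β p) ⊓ LinearMap.ker (β w) with hW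
    have a3 := LinearMap.finrank_range_add_finrank_ker ((β p).prod (β w))
    rw [LinearMap.ker_prod] at a3
    have a4 := Submodule.finrank_le (LinearMap.range ((β p).prod (β w)))
    rw [Module.finrank_prod, Module.finrank_self] at a4
    have a3' : finrank K (LinearMap.range ((β p).prod (β w))) + finrank K W =
        finrank K (ι → F) := a3
    obtain ⟨⟨y1, hy1⟩, hy10, hy11⟩ := exists_isotropic (β.compl₁₂ W.subtype W.subtype) (by omega)
    have hy1q : β y1 y1 = 0 := by simpa using hy11
    by_cases hzy1 : β z y1 = 0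
    swap
    · exact ⟨y1, hy1q, hy1.1, hzy1⟩
    obtain ⟨y2', hy2'⟩ : ∃ y, β y1 y ≠ 0 := by
      by_contra hcon
      push Not at hcon
      exact hy10 (Subtype.ext (hS.beta_nd hcon))
    have hy1p : β y1 p = 0 := by rw [hS.symm]; exact hy1.1
    have hy1w : β y1 w = 0 := by rw [hS.symm]; exact hy1.2
    obtain ⟨y2, hy2, hpy2⟩ : ∃ y, β y1 y = 1 ∧ β p y = 0 := by
      refine ⟨(β y1 y2')⁻¹ • (y2' - β p y2' • w), ?_, ?_⟩
      · rw [map_smul, map_sub, map_smul, hy1w, smul_zero, sub_zero, smul_eq_mul,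
          inv_mul_cancel₀ hy2']
      · rw [map_smul, map_sub, map_smul, hpw, smul_eq_mul, smul_eq_mul, mul_one, sub_self, mul_zero]
    obtain ⟨v', hv'⟩ : ∃ v', v' = v - β y1 v • y2 := ⟨_, rfl⟩
    have hy1v : β y1 v' = 0 := by
      rw [hv', map_sub, map_smul, hy2, smul_eq_mul, mul_one, sub_self]
    have hv1' : β p v' = 0 := by rw [hv', map_sub, map_smul, hv1, hpy2, smul_zero, sub_zero]
    by_cases hzv' : β z v' = 0
    · have hzy2 : β z y2 ≠ 0 := fun h => hzv (by
        rwa [hv', map_sub, map_smul, h, smul_zero, sub_zero] at hzv')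
      refine ⟨y2 - (β y2 y2 / 2) • y1, ?_, ?_, ?_⟩
      · simp only [map_sub, map_smul, LinearMap.sub_apply, LinearMap.smul_apply, smul_eq_mul, hy1q,
          hy2, hS.symm y2 y1]
        have := hS.twoK
        field_simp
        ring
      · rw [map_sub, map_smul, hpy2, show β p y1 = 0 from hy1.1, smul_zero, sub_zero]
      · rwa [map_sub, map_smul, hzy1, smul_zero, sub_zero]
    revert hy1v hv1' hzv'
    clear hv'
    revert v'
    intro v hy1v hv1 hzv
    obtain ⟨ε, hε, hne⟩ : ∃ ε : K, ε ≠ 0 ∧ β z v + ε * β z y2 ≠ 0 := by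
      by_cases h : β z v + β z y2 = 0
      · refine ⟨-1, neg_ne_zero.2 one_ne_zero, fun h' => hzv ?_⟩
        have h'' : (2 : K) * β z v = 0 := by linear_combination h + h'
        exact (mul_eq_zero.1 h'').resolve_left hS.twoK
      · exact ⟨1, one_ne_zero, by rwa [one_mul]⟩
    refine ⟨v + ε • y2 - (β (v + ε • y2) (v + ε • y2) / (2 * ε)) • y1, ?_, ?_, ?_⟩
    · simp only [map_add, map_sub, map_smul, LinearMap.add_apply, LinearMap.sub_apply,
        LinearMap.smul_apply, smul_eq_mul, hy1q, hy1v, hy2, hS.symm v y1, hS.symm y2 y1]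
      have := hS.twoK
      field_simp
      ring
    · rw [map_sub, map_add, map_smul, map_smul, hv1, hpy2, show β p y1 = 0 from hy1.1]; simp
    · rwa [map_sub, map_add, map_smul, map_smul, hzy1, smul_zero, sub_zero, smul_eq_mul]
  obtain ⟨ξ, hξ0, hξ, -⟩ := jmove hz hy hpy hzy
  obtain ⟨k, hk⟩ := hnosing _ hξ (by rw [map_smul, LinearMap.map_smul₂, hy, smul_zero, smul_zero])
  have h := congrArg (β z) hk
  rw [map_smul, map_smul, hzp, smul_zero] at h
  exact hzy ((smul_eq_zero.1 h).resolve_left hξ0)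

omit [FiniteDimensional F K] in
/-- In a quadratic extension every element of the base field is a square. -/
theorem isSquare_base (h2 : finrank F K = 2) (f : F) : IsSquare (algebraMap F K f) := by
  classical
  haveI : FiniteDimensional F K := Module.Finite.of_finite
  cases nonempty_fintype F
  cases nonempty_fintype K
  by_cases hf : f = 0
  · rw [hf, map_zero]; exact IsSquare.zero
  have hK : ringChar K ≠ 2 := fun e => hS.twoK (by
    haveI := ringChar.charP K
    rw [← Nat.cast_ofNat, ← e]
    exact CharP.cast_eq_zero K (ringChar K))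
  have hF : ringChar F ≠ 2 := fun e => hS.two (by
    haveI := ringChar.charP F
    rw [← Nat.cast_ofNat, ← e]
    exact CharP.cast_eq_zero F (ringChar F))
  obtain ⟨j, hj⟩ : ∃ j, Fintype.card F = 2 * j + 1 := Nat.odd_iff.2 (FiniteField.odd_card_of_char_ne_two hF)
  rw [FiniteField.isSquare_iff hK (fun e => hf ((algebraMap F K).injective (by rw [e, map_zero]))),
    ← map_pow, ← Nat.card_eq_fintype_card, Module.natCard_eq_pow_finrank (K := F), h2,
    Nat.card_eq_fintype_card]
  have e : Fintype.card F ^ 2 / 2 = (Fintype.card F - 1) * (j + 1) := by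
    rw [hj, show (2 * j + 1) ^ 2 = 1 + 2 * ((2 * j) * (j + 1)) by ring, Nat.add_mul_div_left _ _ two_pos,
      Nat.add_sub_cancel]
    omega
  rw [e, pow_mul, FiniteField.pow_card_sub_one_eq_one f hf, one_pow, map_one]

omit [FiniteDimensional F K] in
/-- The reflection over `K` in a non-singular vector. -/
theorem exists_kref {a : V} (ha : β a a ≠ 0) :
    ∃ g : Grp Q, ∀ x, ap g x = x - (2 * β a x / β a a) • a := by
  set f : V →ₗ[K] V := LinearMap.id - ((2 / β a a) • β a).smulRight a with hf
  have hfx : ∀ x, f x = x - (2 * β a x / β a a) • a := fun x => by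
    simp only [hf, LinearMap.sub_apply, LinearMap.id_apply, LinearMap.smulRight_apply,
      LinearMap.smul_apply, smul_eq_mul, div_mul_eq_mul_div]
  obtain ⟨g, hg⟩ := exists_iso hS.nd (f.restrictScalars F) fun x => by
    refine mul_left_cancel₀ hS.two ?_
    rw [LinearMap.restrictScalars_apply, hS.q_eq, hS.q_eq, hfx]
    congr 1
    simp only [map_sub, map_smul, LinearMap.sub_apply, LinearMap.smul_apply, smul_eq_mul,
      hS.symm x a]
    field_simp
    ring
  exact ⟨g, fun x => by rw [hg, LinearMap.restrictScalars_apply, hfx]⟩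

/-- No two independent orthogonal singular vectors over `K`. -/
def Thin (β : (ι → F) →ₗ[K] (ι → F) →ₗ[K] K) : Prop :=
  ∀ p y : ι → F, β p p = 0 → β y y = 0 → β p y = 0 → p ≠ 0 → ∃ k : K, y = k • p

/-- For degree two and a thin form the radical of a point lies in its line. -/
theorem rad_le_line_thin (h2 : finrank F K = 2) (h4 : 4 ≤ finrank K (ι → F)) (hthin : Thin β)
    (hn : 5 ≤ finrank F (ι → F))
    (hlin : ∀ g, g ∈ Cfsg.Omega F ⇑Q → (∀ (k : K) x, ap g (k • x) = k • ap g x) → g ∈ M)
    {p d : V} (hp : β p p = 0) (hp0 : p ≠ 0)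
    (hline : ∀ y : V, β y y = 0 → y ≠ 0 → ∀ k : K, GoodAt Q M y (k • y))
    (hd : GoodAt Q M p d) (hpd : β p d = 0) (hdp : ∀ k : K, d ≠ k • p)
    {z : V} (hz : Rad Q M p z) : ∃ k : K, z = k • p := by
  classical
  haveI := hS.finiteK
  obtain ⟨w, hw, hpw⟩ := hS.exists_mate hp hp0
  have hwp : β w p = 1 := by rw [hS.symm, hpw]
  set W : Submodule K V := LinearMap.ker (β p) ⊓ LinearMap.ker (β w) with hW
  have memW : ∀ x, x ∈ W ↔ β p x = 0 ∧ β w x = 0 := fun x => Iff.rfl
  have hani : ∀ v ∈ W, β v v = 0 → v = 0 := fun v hv hvv => by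
    obtain ⟨k, rfl⟩ := hthin p v hp hvv ((memW v).1 hv).1 hp0
    have h := ((memW _).1 hv).2
    rw [map_smul, hwp, smul_eq_mul, mul_one] at h
    rw [h, zero_smul]
  have hW2 : finrank K W ≤ 2 := by
    by_contra hc
    obtain ⟨⟨v, hv⟩, hv0, hvq⟩ := exists_isotropic (β.compl₁₂ W.subtype W.subtype) (by omega)
    exact hv0 (Subtype.ext (hani v hv (by simpa using hvq)))
  have hW2' : 2 ≤ finrank K W := by
    have := hS.finrank_perp_pair p w
    rw [← hW] at this
    omega
  have split : ∀ x, β p x = 0 → x - β w x • p ∈ W := fun x hx => (memW _).2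
    ⟨by rw [map_sub, map_smul, hx, hp, smul_zero, sub_zero],
      by rw [map_sub, map_smul, hwp, smul_eq_mul, mul_one, sub_self]⟩
  have hzp : β p z = 0 := by
    rw [hS.symm]
    exact hS.beta_zero_iff.2 fun k => by rw [b_comm]; exact hz _ (hline p hp hp0 k)
  by_contra hc
  push Not at hc
  obtain ⟨a, ha⟩ : ∃ a, a = z - β w z • p := ⟨_, rfl⟩
  have haW : a ∈ W := ha ▸ split z hzp
  have ha0 : a ≠ 0 := fun e => hc (β w z) (sub_eq_zero.1 (ha ▸ e))
  obtain ⟨d₀, hd₀⟩ : ∃ d₀, d₀ = d - β w d • p := ⟨_, rfl⟩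
  have hd₀W : d₀ ∈ W := hd₀ ▸ split d hpd
  have hd₀0 : d₀ ≠ 0 := fun e => hdp (β w d) (sub_eq_zero.1 (hd₀ ▸ e))
  -- a second vector
  obtain ⟨b, hbW, hba, hab⟩ : ∃ b ∈ W, b ∉ Submodule.span K {a} ∧ β a b ≠ 0 := by
    obtain ⟨b, hbW, hba⟩ : ∃ b ∈ W, b ∉ Submodule.span K {a} := by
      by_contra hcon
      push Not at hcon
      have := Submodule.finrank_mono (show W ≤ Submodule.span K {a} from hcon)
      rw [finrank_span_singleton ha0] at this
      omega
    by_cases h : β a b = 0
    · refine ⟨b + a, W.add_mem hbW haW, fun e => hba ?_, ?_⟩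
      · have := Submodule.sub_mem _ e (Submodule.mem_span_singleton_self a)
        rwa [add_sub_cancel_right] at this
      · rw [map_add, h, zero_add]; exact fun e => ha0 (hani a haW e)
    · exact ⟨b, hbW, hba, h⟩
  have hspan : W ≤ Submodule.span K ({a, b} : Set V) := by
    have hle : Submodule.span K ({a, b} : Set V) ≤ W := by
      rw [Submodule.span_le]; exact Set.insert_subset haW (Set.singleton_subset_iff.2 hbW)
    refine (Submodule.eq_of_le_of_finrank_le hle ?_).ge
    have hlt : Submodule.span K {a} < Submodule.span K ({a, b} : Set V) := by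
      refine lt_of_le_of_ne (Submodule.span_mono (by simp)) fun e => hba ?_
      rw [e]; exact Submodule.subset_span (Set.mem_insert_of_mem _ rfl)
    have h4' := Submodule.finrank_lt_finrank_of_lt hlt
    rw [finrank_span_singleton ha0] at h4'
    omega
  have hA : β a a ≠ 0 := fun e => ha0 (hani a haW e)
  have hBb : β b b ≠ 0 := fun e => hba (by rw [hani b hbW e]; exact Submodule.zero_mem _)
  have hD : ¬ IsSquare (β a b * β a b - β a a * β b b) := by
    rintro ⟨r, hr⟩
    have hv : β (β b b • a + (r - β a b) • b) (β b b • a + (r - β a b) • b) = 0 := by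
      simp only [map_add, map_smul, LinearMap.add_apply, LinearMap.smul_apply, smul_eq_mul,
        hS.symm b a]
      linear_combination (-(β b b)) * hr
    have hv0 := hani _ (W.add_mem (W.smul_mem _ haW) (W.smul_mem _ hbW)) hv
    by_cases hr0 : r - β a b = 0
    · rw [hr0, zero_smul, add_zero] at hv0
      exact ha0 ((smul_eq_zero.1 hv0).resolve_left hBb)
    · refine hba (Submodule.mem_span_singleton.2 ⟨-(β b b / (r - β a b)), ?_⟩)
      apply smul_right_injective V hr0
      simp only [smul_smul]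
      rw [mul_neg, mul_div_cancel₀ _ hr0, neg_smul, eq_neg_of_add_eq_zero_right hv0]
  obtain ⟨T, hT⟩ : ∃ T, T = 4 * (β a b * β a b) / (β a a * β b b) - 2 := ⟨_, rfl⟩
  have hTF : ∀ f : F, T * T ≠ algebraMap F K f := fun f hf => by
    obtain ⟨e, he⟩ := isSquare_base hS h2 (f - 4)
    refine hD ⟨e * (β a a * β b b) / (4 * β a b), ?_⟩
    have h4' : (4 : K) ≠ 0 := by
      rw [show (4 : K) = 2 * 2 by norm_num]; exact mul_ne_zero hS.twoK hS.twoK
    rw [map_sub, map_ofNat, ← hf, hT] at he
    field_simp at he ⊢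
    linear_combination he
  obtain ⟨ra, hra⟩ := exists_kref hS hA
  obtain ⟨rb, hrb⟩ := exists_kref hS hBb
  obtain ⟨g, hg⟩ : ∃ g, g = ra * rb * (ra * rb) := ⟨_, rfl⟩
  have hlinR : ∀ (k : K) x, ap (ra * rb) (k • x) = k • ap (ra * rb) x := fun k x => by
    simp only [ap_mul, hrb, hra, map_sub, map_smul, smul_eq_mul, smul_sub, smul_smul]
    match_scalars <;> ring
  have hgl : ∀ (k : K) x, ap g (k • x) = k • ap g x := fun k x => by
    rw [hg, ap_mul, ap_mul (ra * rb), hlinR, hlinR]
  have hgM : g ∈ M := hlin g (hg ▸ sq_mem_omega hS.nd hn _) hgl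
  have hpaW : ∀ v ∈ W, β v p = 0 := fun v hv => by rw [hS.symm]; exact ((memW v).1 hv).1
  have hgp : ap g p = p := by
    simp [hg, ap_mul, hra, hrb, hpaW a haW, hpaW b hbW]
  have hRa : ap (ra * rb) a = (T + 1) • a + (-(2 * β a b / β b b)) • b := by
    simp only [ap_mul, hrb, hra, map_sub, map_smul, smul_eq_mul, hS.symm b a, hT]
    match_scalars <;> field_simp <;> ring
  have hRb : ap (ra * rb) b = (2 * β a b / β a a) • a + (-1 : K) • b := by
    simp only [ap_mul, hrb, hra, map_sub, map_smul, smul_eq_mul, hS.symm b a]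
    match_scalars <;> field_simp <;> ring
  have hga : ap g a = (T * (T + 1) - 1) • a + (-(T * (2 * β a b / β b b))) • b := by
    rw [hg, ap_mul, hRa, ap_add, hlinR, hlinR, hRa, hRb, hT]
    match_scalars <;> field_simp <;> ring
  have hgb : ap g b = (T * (2 * β a b / β a a)) • a + (-(T + 1)) • b := by
    rw [hg, ap_mul, hRb, ap_add, hlinR, hlinR, hRa, hRb, hT]
    match_scalars <;> field_simp <;> ring
  have htau : ap g (ap g a) + a = (T * T - 2) • ap g a := by
    rw [hga, ap_add, hgl, hgl, hga, hgb, hT]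
    match_scalars <;> field_simp <;> ring
  -- the projection of the radical
  let S0 : V → Prop := fun x => x ∈ W ∧ ∃ k : K, Rad Q M p (x + k • p)
  have hgW : ∀ x ∈ W, ap g x ∈ W := fun x hx => by
    obtain ⟨α, γ, rfl⟩ := Submodule.mem_span_pair.1 (hspan hx)
    rw [ap_add, hgl, hgl, hga, hgb]
    exact W.add_mem (W.smul_mem _ (W.add_mem (W.smul_mem _ haW) (W.smul_mem _ hbW)))
      (W.smul_mem _ (W.add_mem (W.smul_mem _ haW) (W.smul_mem _ hbW)))
  have hS0a : S0 a := ⟨haW, β w z, by rw [ha, sub_add_cancel]; exact hz⟩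
  have hS0g : ∀ x, S0 x → S0 (ap g x) := fun x ⟨hx, k, hk⟩ => ⟨hgW x hx, k, by
    have := rad_stable hk hgM hgp
    rwa [ap_add, hgl, hgp] at this⟩
  have hS0add : ∀ x y, S0 x → S0 y → S0 (x + y) := fun x y ⟨hx, k, hk⟩ ⟨hy, l, hl⟩ =>
    ⟨W.add_mem hx hy, k + l, by
      have := rad_sub hk (rad_smul hl (-1))
      rwa [neg_one_smul, sub_neg_eq_add, show x + k • p + (y + l • p) = x + y + (k + l) • p by module]
        at this⟩
  have hS0t : ∀ x, S0 x → t (β d₀ x) = 0 := fun x ⟨hx, k, hk⟩ => by
    have h := hk d hd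
    rw [← hS.spec, show d = d₀ + β w d • p by rw [hd₀, sub_add_cancel]] at h
    simp only [map_add, map_smul, LinearMap.add_apply, LinearMap.smul_apply, smul_eq_mul, hp,
      ((memW x).1 hx).1, hpaW d₀ hd₀W] at h
    simpa using h
  have hya := hS0g a hS0a
  have hyg := hS0t _ hya
  have hyτ := hS0t _ (hS0add _ _ (hS0g _ hya) hS0a)
  rw [htau, map_smul, smul_eq_mul] at hyτ
  have hy0 : β d₀ (ap g a) = 0 := by
    refine hS.t_zero fun k => ?_
    have hli : LinearIndependent F ![(1 : K), T * T - 2] := by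
      refine (LinearIndependent.pair_iff' one_ne_zero).2 fun f hf => hTF (f + 2) ?_
      rw [map_add, map_ofNat, Algebra.algebraMap_eq_smul_one, hf, sub_add_cancel]
    have htop := hli.span_eq_top_of_card_eq_finrank (by rw [Fintype.card_fin, h2])
    rw [Matrix.range_cons, Matrix.range_cons, Matrix.range_empty, Set.union_empty,
      Set.singleton_union] at htop
    obtain ⟨α, γ, hab'⟩ := Submodule.mem_span_pair.1 (show k ∈ Submodule.span F {(1 : K), T * T - 2} by
      rw [htop]; trivial)
    rw [← hab', add_mul, smul_mul_assoc, smul_mul_assoc, one_mul, map_add, map_smul, map_smul, hyg,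
      hyτ, smul_zero, smul_zero, add_zero]
  have hT0 : T ≠ 0 := fun e => hTF 0 (by rw [e, mul_zero, map_zero])
  have hd₀a : β d₀ a = 0 := by
    have hy2 : β d₀ (ap g (ap g a)) = 0 := by
      refine hS.t_zero fun k => ?_
      have hyg2 := hS0t _ (hS0g _ hya)
      have hyτ2 := hS0t _ (hS0add _ _ (hS0g _ (hS0g _ hya)) hya)
      rw [← ap_add g, htau, hgl, map_smul, smul_eq_mul] at hyτ2
      have hli : LinearIndependent F ![(1 : K), T * T - 2] := by
        refine (LinearIndependent.pair_iff' one_ne_zero).2 fun f hf => hTF (f + 2) ?_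
        rw [map_add, map_ofNat, Algebra.algebraMap_eq_smul_one, hf, sub_add_cancel]
      have htop := hli.span_eq_top_of_card_eq_finrank (by rw [Fintype.card_fin, h2])
      rw [Matrix.range_cons, Matrix.range_cons, Matrix.range_empty, Set.union_empty,
        Set.singleton_union] at htop
      obtain ⟨α, γ, hab'⟩ := Submodule.mem_span_pair.1 (show k ∈ Submodule.span F {(1 : K), T * T - 2} by
        rw [htop]; trivial)
      rw [← hab', add_mul, smul_mul_assoc, smul_mul_assoc, one_mul, map_add, map_smul, map_smul, hyg2,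
        hyτ2, smul_zero, smul_zero, add_zero]
    have h := congrArg (β d₀) htau
    rwa [map_add, hy2, zero_add, map_smul, hy0, smul_zero] at h
  have hd₀b : β d₀ b = 0 := by
    rw [hga, map_add, map_smul, map_smul, hd₀a, smul_zero, zero_add, smul_eq_mul] at hy0
    exact (mul_eq_zero.1 hy0).resolve_left
      (neg_ne_zero.2 (mul_ne_zero hT0 (div_ne_zero (mul_ne_zero hS.twoK hab) hBb)))
  refine hd₀0 (hani d₀ hd₀W ?_)
  obtain ⟨α, γ, e⟩ := Submodule.mem_span_pair.1 (hspan hd₀W)
  conv_lhs => arg 2; rw [← e]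
  rw [map_add, map_smul, map_smul, hd₀a, hd₀b, smul_zero, smul_zero, add_zero]

/-- An overgroup moving a singular line over `K` contains all Siegel transformations. -/
theorem El_le_of_moved (hM : Over β M) (h4 : 4 ≤ finrank K (ι → F))
    (h6 : finrank F K = 2 → 5 ≤ finrank K (ι → F) ∨ Thin β)
    (hn : 5 ≤ finrank F (ι → F))
    (hlin : ∀ g, g ∈ Cfsg.Omega F ⇑Q → (∀ (k : K) x, ap g (k • x) = k • ap g x) → g ∈ M)
    {g : Grp Q} (hg : g ∈ M) {a : V}
    (ha : β a a = 0) (hmove : ∃ μ : K, ∀ k : K, ap g (μ • a) ≠ k • ap g a) : El Q ≤ M := by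
  classical
  haveI := hS.finiteK
  obtain ⟨u, u', h, hp, hk, hA⟩ := exists_adjacent hS hM h4 hg ha hmove
  obtain ⟨e0, he0, he00, hroot⟩ := root_line hS hM h4 hp hk hA
  have hline : ∀ y : V, β y y = 0 → y ≠ 0 → ∀ k : K, GoodAt Q M y (k • y) := by
    intro y hy hy0 k
    obtain ⟨s, hs, hsl, hse⟩ := hS.exists_trans hM h4 he0 hy he00 hy0
    have h' := goodAt_conj hs (hroot k)
    rwa [hse, hsl, hse] at h'
  have hgood : ∀ y : V, β y y = 0 → y ≠ 0 →
      ∃ d, GoodAt Q M y d ∧ β y d = 0 ∧ ∀ k : K, d ≠ k • y := by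
    intro y hy hy0
    obtain ⟨ν, hν⟩ := hp.moved
    obtain ⟨μ0, hμ0, hμ00⟩ := Submodule.exists_mem_ne_zero_of_ne_bot
      (Submodule.one_le_finrank_iff.1 (by
        have := hS.deg.two_le
        omega : 1 ≤ finrank F (Lsp (K := K) u u' h)))
    obtain ⟨k1, hk1⟩ := mem_lsp.1 hμ0
    have hk10 : k1 ≠ 0 := fun e => hμ00 (by
      rw [e, zero_smul] at hk1
      exact (smul_eq_zero.1 (ap_inj h (hk1.symm.trans (ap_zero h).symm))).resolve_right hp.ne')
    have ha' : β (μ0 • u') (μ0 • u') = 0 := by
      rw [map_smul, LinearMap.map_smul₂, hp.sing', smul_zero, smul_zero]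
    have hgd := goodAt_conj hp.mem (hline _ ha' (smul_ne_zero hμ00 hp.ne') (ν / μ0))
    rw [smul_smul, div_mul_cancel₀ _ hμ00, ← hk1] at hgd
    have hp0 : β (k1 • u) (k1 • u) = 0 := by
      rw [map_smul, LinearMap.map_smul₂, hp.sing, smul_zero, smul_zero]
    obtain ⟨s, hs, hsl, hse⟩ := hS.exists_trans hM h4 hp0 hy (smul_ne_zero hk10 hp.ne) hy0
    have h' := goodAt_conj hs hgd
    rw [hse] at h'
    refine ⟨_, h', hS.beta_zero_iff.2 fun k => ?_, fun k e => hν ?_⟩
    · rw [← hse, ← hsl, ap_b, hS.b_smul', LinearMap.map_smul₂, hS.symm u,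
        ← pairing_apply, hA, smul_zero, mul_zero, map_zero]
    · rw [← hse, ← hsl] at e
      exact mem_lsp.2 ⟨k * k1, by rw [ap_inj s e, smul_smul]⟩
  have hrad : finrank F K = 2 → ∀ {p d z : V}, β p p = 0 → p ≠ 0 → GoodAt Q M p d → β p d = 0 →
      (∀ k : K, d ≠ k • p) → Rad Q M p z → ∃ k : K, z = k • p := by
    intro h2 p d z hpp hp0 hd hpd hdp hz
    rcases h6 h2 with h | h
    · exact rad_le_line hS h2 h hpp hp0 hline hd hpd hdp hz
    · exact rad_le_line_thin hS h2 h4 h hn hlin hpp hp0 hline hd hpd hdp hz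
  have hperp : ∀ p : V, β p p = 0 → p ≠ 0 → ∀ x, β p x = 0 → GoodAt Q M p x := by
    intro p hpp hp0 x hx
    refine good_of_rad hS (hS.sing hpp) fun z hz => ?_
    obtain ⟨d, hd, hpd, hdp⟩ := hgood p hpp hp0
    obtain ⟨k, rfl⟩ : ∃ k : K, z = k • p := by
      rcases (lt_or_eq_of_le hS.deg.two_le) with h3 | h2
      · obtain ⟨f, hf⟩ := rad_eq_point hS h3 hpp hp0 hline hz
        exact ⟨algebraMap F K f, by rw [hf, algebraMap_smul]⟩
      · exact hrad h2.symm hpp hp0 hd hpd hdp hz
    rw [hS.b_smul, hx, mul_zero, map_zero]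
  have hwide : ∀ p : V, β p p = 0 → p ≠ 0 → ∀ x, B p x = 0 → GoodAt Q M p x := by
    intro p hpp hp0 x hx
    refine good_of_rad hS (hS.sing hpp) fun z hz => ?_
    obtain ⟨f, hf⟩ : ∃ f : F, z = f • p := by
      rcases (lt_or_eq_of_le hS.deg.two_le) with h3 | h2
      · exact rad_eq_point hS h3 hpp hp0 hline hz
      obtain ⟨d, hd, hpd, hdp⟩ := hgood p hpp hp0
      obtain ⟨μ, rfl⟩ := hrad h2.symm hpp hp0 hd hpd hdp hz
      by_contra hcon
      push Not at hcon
      obtain ⟨w, hw, hpw⟩ := hS.exists_mate hpp hp0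
      obtain ⟨v, hpv, hwv, hvv⟩ := hS.exists_value h4 hpp hw (by rw [hpw]; exact one_ne_zero) 1
      obtain ⟨ξ, hξ, hξ0⟩ : ∃ ξ : K, t ξ = 0 ∧ ξ ≠ 0 := by
        have hne : LinearMap.ker t ≠ ⊥ := by
          intro e
          have h1 := LinearMap.finrank_le_finrank_of_injective (LinearMap.ker_eq_bot.1 e)
          rw [Module.finrank_self] at h1
          omega
        obtain ⟨ξ, h1, h3⟩ := Submodule.exists_mem_ne_zero_of_ne_bot hne
        exact ⟨ξ, h1, h3⟩
      have ha0 : β (ξ • w) (ξ • w) = 0 := by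
        rw [map_smul, LinearMap.map_smul₂, hw, smul_zero, smul_zero]
      have hw0 : w ≠ 0 := fun e => one_ne_zero (α := K) (by rw [← hpw, e, map_zero])
      have hav : β (ξ • w) v = 0 := by rw [LinearMap.map_smul₂, hwv, smul_zero]
      obtain ⟨s, hs⟩ := exists_siegel hS.nd (hS.sing ha0)
        (hperp _ ha0 (smul_ne_zero hξ0 hw0) _ hav).1
      have hsM : s ∈ M :=
        (hperp _ ha0 (smul_ne_zero hξ0 hw0) _ hav).2 1 s (by rwa [one_smul])
      have hsp : ap s p = p := siegel_fix hs
        (by rw [hS.b_smul', hpw, mul_one, hξ]) (by rw [← hS.spec, hpv, map_zero])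
      have h' := rad_sub (rad_stable hz hsM hsp) hz
      rw [hs.2.2, hS.b_smul, map_smul, hpw, smul_eq_mul, mul_one, hS.b_smul, hpv, mul_zero, map_zero,
        zero_smul, sub_zero] at h'
      by_cases hμξ : t (μ * ξ) = 0
      · have hli : LinearIndependent F ![(1 : K), μ] := by
          refine (LinearIndependent.pair_iff' one_ne_zero).2 fun a ha => hcon a ?_
          rw [← ha, smul_assoc, one_smul]
        have htop := hli.span_eq_top_of_card_eq_finrank (by rw [Fintype.card_fin, ← h2])
        rw [Matrix.range_cons, Matrix.range_cons, Matrix.range_empty, Set.union_empty,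
          Set.singleton_union] at htop
        refine hξ0 (hS.t_zero fun k => ?_)
        obtain ⟨a, b, hab⟩ := Submodule.mem_span_pair.1 (show k ∈ Submodule.span F {(1 : K), μ} by
          rw [htop]; trivial)
        rw [← hab, add_mul, smul_mul_assoc, smul_mul_assoc, one_mul, map_add, map_smul, map_smul, hξ,
          hμξ, smul_zero, smul_zero, add_zero]
      · obtain ⟨k, hk'⟩ := hrad h2.symm hpp hp0 hd hpd hdp h'
        have := congrArg (β v) hk'
        simp only [map_add, map_sub, map_smul, LinearMap.map_smul_of_tower, hS.symm v w, hwv,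
          hS.symm v p, hpv, hvv, smul_zero, add_zero, sub_zero, add_sub_cancel_left, smul_eq_mul,
          mul_zero] at this
        rw [← Algebra.algebraMap_eq_smul_one] at this
        exact hμξ ((algebraMap F K).injective (by simpa using this))
    rw [hf, b_smul_left, hx, mul_zero]
  obtain ⟨w, hw, huw⟩ := hS.exists_mate hp.sing hp.ne
  obtain ⟨k, hk'⟩ : ∃ k, t k ≠ 0 := by
    by_contra hc
    push Not at hc
    exact hS.t_ne (LinearMap.ext hc)
  have hk0 : k ≠ 0 := fun e => hk' (by rw [e, map_zero])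
  have hw0 : w ≠ 0 := fun e => one_ne_zero (α := K) (by rw [← huw, e, map_zero])
  have hfw : β (k • w) (k • w) = 0 := by rw [map_smul, LinearMap.map_smul₂, hw, smul_zero, smul_zero]
  refine El_le_of_two hS.nd (hS.sing hp.sing) (hS.sing hfw) (f := k • w) ?_ ?_ ?_
  · rw [hS.b_smul', huw, mul_one]; exact hk'
  · intro v s hs
    exact (hwide u hp.sing hp.ne v hs.2.1).2 1 s (by rwa [one_smul])
  · intro v s hs
    exact (hwide _ hfw (smul_ne_zero hk0 hw0) v hs.2.1).2 1 s (by rwa [one_smul])

end CfsgLib.OrthExt
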