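import Mathlib

set_option autoImplicit false
set_option linter.unusedSectionVars false

/-!
Few quadratic equations in many variables over a finite field have a common non-zero solution.
-/

namespace CfsgLib.OrthExt

open Module MvPolynomial

theorem exists_common_zero {k E : Type*} [Field k] [Finite k] [AddCommGroup E] [Module k E]
    [FiniteDimensional k E] {s : ℕ} (L : Fin s → E →ₗ[k] k) (q : Fin s → E →ₗ[k] E →ₗ[k] k)
    (h : 2 * s < finrank k E) : ∃ v : E, v ≠ 0 ∧ ∀ i, L i v + q i v v = 0 := by
  classical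
  have : Fintype k := Fintype.ofFinite k
  obtain ⟨p, hp⟩ := CharP.exists k
  haveI := hp
  have hpp : p.Prime := CharP.char_is_prime k p
  set b := Module.finBasis k E
  set f : Fin s → MvPolynomial (Fin (finrank k E)) k := fun i =>
    (∑ j, C (L i (b j)) * X j) + ∑ j, ∑ l, C (q i (b j) (b l)) * (X j * X l) with hf
  have hdeg : ∀ i, (f i).totalDegree ≤ 2 := by
    intro i
    refine (totalDegree_add _ _).trans (max_le ?_ ?_)
    · refine totalDegree_finsetSum_le fun j _ => (totalDegree_mul _ _).trans ?_
      rw [totalDegree_C, totalDegree_X]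
      omega
    · refine totalDegree_finsetSum_le fun j _ => totalDegree_finsetSum_le fun l _ =>
        (totalDegree_mul _ _).trans ?_
      rw [totalDegree_C, zero_add]
      exact (totalDegree_mul _ _).trans (by rw [totalDegree_X, totalDegree_X])
  have heval : ∀ i (c : Fin (finrank k E) → k),
      eval c (f i) = L i (∑ j, c j • b j) + q i (∑ j, c j • b j) (∑ j, c j • b j) := by
    intro i c
    simp only [hf, map_add, map_sum, map_mul, eval_C, eval_X, map_smul, LinearMap.sum_apply,
      LinearMap.smul_apply, smul_eq_mul]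
    congr 1
    · exact Finset.sum_congr rfl fun j _ => mul_comm _ _
    · simp only [Finset.mul_sum]
      rw [Finset.sum_comm]
      exact Finset.sum_congr rfl fun j _ => Finset.sum_congr rfl fun l _ => by ring
  have hdvd := char_dvd_card_solutions_of_sum_lt p (s := Finset.univ) (f := f) (by
    rw [Fintype.card_fin]
    refine lt_of_le_of_lt (Finset.sum_le_card_nsmul _ _ 2 fun i _ => hdeg i) ?_
    rw [Finset.card_univ, Fintype.card_fin, smul_eq_mul]
    omega)
  set S := {x : Fin (finrank k E) → k // ∀ i ∈ Finset.univ, eval x (f i) = 0}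
  have h0 : ∀ i ∈ (Finset.univ : Finset (Fin s)), eval (0 : Fin (finrank k E) → k) (f i) = 0 :=
    fun i _ => by rw [heval]; simp
  obtain ⟨⟨c, hc⟩, hne⟩ : ∃ x : S, x ≠ ⟨0, h0⟩ := by
    refine Fintype.exists_ne_of_one_lt_card ?_ _
    refine lt_of_lt_of_le hpp.one_lt (Nat.le_of_dvd (Fintype.card_pos_iff.2 ⟨⟨0, h0⟩⟩) ?_)
    convert hdvd
  refine ⟨∑ j, c j • b j, fun e => hne (Subtype.ext (funext fun j => ?_)), fun i => ?_⟩
  · exact Fintype.linearIndependent_iff.1 b.linearIndependent c e j
  · rw [← heval]; exact hc i (Finset.mem_univ i)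

/-- A quadratic form in three variables has a non-trivial zero. -/
theorem exists_isotropic {k E : Type*} [Field k] [Finite k] [AddCommGroup E] [Module k E]
    [FiniteDimensional k E] (q : E →ₗ[k] E →ₗ[k] k) (h : 3 ≤ finrank k E) :
    ∃ v : E, v ≠ 0 ∧ q v v = 0 := by
  obtain ⟨v, hv, e⟩ := exists_common_zero (s := 1) (fun _ => (0 : E →ₗ[k] k)) (fun _ => q) (by omega)
  exact ⟨v, hv, by simpa using e 0⟩

end CfsgLib.OrthExt
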